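import Cfsg.Agent.Lib.G2Deg48.TraceValue

/-!
A line fixed by the Borel subgroup: the action of the two simple Weyl elements on it.
-/

set_option autoImplicit false
set_option linter.unusedSectionVars false

namespace Cfsg.Agent.Lib.G2Deg48

open Cfsg.Lie Cfsg.Agent.Lib.ChevStructure Module Cfsg.Agent.Lib.MinDegree

variable {F : Type*} [Field F]

/-- `n_r(v)` for the long simple root in the group. -/
theorem xe5_eq (u : Fˣ) :
    xe 5 (u : F) = xe 6 ((u⁻¹ : Fˣ) : F) * (tt 1 (-u⁻¹) * nb) * xe 6 ((u⁻¹ : Fˣ) : F) := by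
  apply Subtype.ext
  show G2Gauss.X 5 (u : F) = G2Gauss.X 6 ((u⁻¹ : Fˣ) : F) *
    (G2Gauss.T 1 (-u⁻¹) * G2Gauss.nn 6) * G2Gauss.X 6 ((u⁻¹ : Fˣ) : F)
  have hn : G2Gauss.T (1 : Fˣ) (-u⁻¹) * G2Gauss.nn 6 = G2Gauss.C.nR F (G2Gauss.rt 6) (-u⁻¹) := by
    rw [G2Gauss.nn, show G2Gauss.T (1 : Fˣ) (-u⁻¹) =
        G2Gauss.C.nR F (G2Gauss.rt 6) (-u⁻¹) * G2Gauss.C.nR F (G2Gauss.rt 6) (-1) from ?_, mul_assoc,
      ← (G2Gauss.C.nR_inv F (G2Gauss.rt 6) 1), inv_mul_cancel, mul_one]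
    rw [G2Gauss.C.hR_eq, G2Gauss.hD_eq, show co chevG2 (G2Gauss.rt 6) G2Gauss.i0 = 0 by decide,
      show co chevG2 (G2Gauss.rt 6) G2Gauss.i1 = 1 by decide, zpow_zero, zpow_one]
  rw [hn, show G2Gauss.C.nR F (G2Gauss.rt 6) (-u⁻¹) =
    G2Gauss.X 6 (((-u⁻¹ : Fˣ)) : F) * G2Gauss.X 5 (-((((-u⁻¹ : Fˣ))⁻¹ : Fˣ) : F)) *
      G2Gauss.X 6 (((-u⁻¹ : Fˣ)) : F) from rfl]
  have hu : -((((-u⁻¹ : Fˣ))⁻¹ : Fˣ) : F) = (u : F) := by
    rw [inv_neg, inv_inv, Units.val_neg, neg_neg]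
  rw [hu, Units.val_neg, ← mul_assoc, ← mul_assoc, G2Gauss.X_neg_cancel, one_mul, mul_assoc, G2Gauss.X_add,
    neg_add_cancel, G2Gauss.X_zero, mul_one]

variable [Fintype F]
variable {M : Type*} [AddCommGroup M] [Module ℂ M] [FiniteDimensional ℂ M]
variable {ρ : Representation ℂ (Gr F) M} {ν : AddChar F ℂ}

theorem x6_avg (z : M) (s : F) :
    eigenProj ρ (x 6) (ν.mulShift 0) (ρ (xe 6 s) z) = eigenProj ρ (x 6) (ν.mulShift 0) z := by
  rw [eigenProj_apply, eigenProj_apply]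
  congr 1
  refine Fintype.sum_equiv (Equiv.addRight s) _ _ fun a => ?_
  rw [AddChar.mulShift_zero, AddChar.one_apply, AddChar.one_apply, one_smul, one_smul,
    ← Module.End.mul_apply, ← map_mul, x_apply, x_apply, xe_add, Equiv.coe_addRight]

theorem tt_avg (x' y' : Fˣ) (z : M) :
    ρ (tt x' y') (eigenProj ρ (x 6) (ν.mulShift 0) z) =
      eigenProj ρ (x 6) (ν.mulShift 0) (ρ (tt x' y') z) := by
  rw [eigenProj_apply, eigenProj_apply, map_smul, map_sum]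
  congr 1
  refine Fintype.sum_equiv (Equiv.mulLeft₀ ((ch 6 x' y' : Fˣ) : F) (Units.ne_zero _)) _ _ fun a => ?_
  rw [AddChar.mulShift_zero, AddChar.one_apply, AddChar.one_apply, one_smul, one_smul,
    ← Module.End.mul_apply, ← map_mul, x_apply, x_apply, tt_xe, map_mul, Module.End.mul_apply]
  rfl

variable (hν : ν ≠ 1) (hF : 5 ≤ Fintype.card F) {w : M} (w0 : w ≠ 0)
  (hw : w ∈ Eg ρ ν 11 0 ⊓ Eg ρ ν 10 0 ⊓ Eg ρ ν 6 0)
  (hd : finrank ℂ (↥(Eg ρ ν 11 0 ⊓ Eg ρ ν 10 0 ⊓ Eg ρ ν 6 0)) ≤ 1)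
include hν hF w0 hw hd

/-- The fixed line is fixed by the root groups 4 and 7 and by the Weyl element of a. -/
theorem short_fixed : w ∈ Eg ρ ν 7 0 ∧ w ∈ Eg ρ ν 4 0 ∧ ρ na w = w := by
  obtain ⟨x, -, hx2, -⟩ := exists_unit hF
  have hT : ∀ z ∈ (Eg ρ ν 11 0 ⊓ Eg ρ ν 10 0 ⊓ Eg ρ ν 6 0 : Submodule ℂ M),
      ρ (tt x 1) z ∈ (Eg ρ ν 11 0 ⊓ Eg ρ ν 10 0 ⊓ Eg ρ ν 6 0 : Submodule ℂ M) := fun z hz =>
    ⟨⟨by simpa using map_tt x 1 hz.1.1, by simpa using map_tt x 1 hz.1.2⟩, by simpa using map_tt x 1 hz.2⟩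
  have h7 : w ∈ Eg ρ ν 7 0 := by
    refine line_fix hν hd 7 (fun s z hz => ?_) x 1 hT (by rwa [ch7, inv_one, mul_one]) hw
    obtain ⟨h9, h8⟩ := bot_mem hν hF hd hz
    refine ⟨⟨map_comm (by decide) s hz.1.1, map_comm (by decide) s hz.1.2⟩, mem_Eg_zero.2 fun t => ?_⟩
    rw [← Module.End.mul_apply, ← map_mul, rel_7_6]
    simp only [map_mul, Module.End.mul_apply, xe_Eg_zero hz.1.1, xe_Eg_zero hz.1.2, xe_Eg_zero h9,
      xe_Eg_zero h8, xe_Eg_zero hz.2]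
  have h4 : w ∈ Eg ρ ν 4 0 := by
    refine line_fix hν hd 4 (fun s z hz => ?_) x 1 hT
      (by rwa [ch4, mul_one, inv_pow, Ne, inv_eq_one]) hw
    obtain ⟨h9, h8⟩ := bot_mem hν hF hd hz
    refine ⟨⟨map_comm (by decide) s hz.1.1, mem_Eg_zero.2 fun t => ?_⟩, map_comm (by decide) s hz.2⟩
    rw [← Module.End.mul_apply, ← map_mul, rel_4_10]
    simp only [map_mul, Module.End.mul_apply, xe_Eg_zero hz.1.1, xe_Eg_zero hz.1.2, xe_Eg_zero h9,
      xe_Eg_zero h8, xe_Eg_zero hz.2]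
  refine ⟨h7, h4, ?_⟩
  rw [show (na : Gr F) = xe 7 1 * xe 4 (-1) * xe 7 1 from Subtype.ext (G2Gauss.nn_eq 7),
    map_mul, map_mul, Module.End.mul_apply, Module.End.mul_apply, xe_Eg_zero h7, xe_Eg_zero h4,
    xe_Eg_zero h7]

/-- The fixed line is fixed by the torus; the coefficient of the Weyl element of b. -/
theorem long_coeff : (∀ x' y' : Fˣ, ρ (tt x' y') w = w) ∧
    ∃ c : ℂ, ((Fintype.card F : ℂ) * c = -1 ∨ c = 1) ∧
      eigenProj ρ (x 6) (ν.mulShift 0) (ρ nb w) = c • w := by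
  classical
  obtain ⟨h7, h4, hna⟩ := short_fixed hν hF w0 hw hd
  obtain ⟨h9, h8⟩ := bot_mem hν hF hd hw
  set P := eigenProj ρ (x 6) (ν.mulShift 0) with hP
  have hPw : P w = w := eigenProj_of_mem _ hw.2
  -- the torus character
  have hθ : ∀ x' y' : Fˣ, ∃ θ : ℂ, ρ (tt x' y') w = θ • w := fun x' y' =>
    eq_smul_of_line hd hw w0
      ⟨⟨by simpa using map_tt x' y' hw.1.1, by simpa using map_tt x' y' hw.1.2⟩,
        by simpa using map_tt x' y' hw.2⟩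
  choose θ hθ using hθ
  have hθ0 : ∀ x' y', θ x' y' ≠ 0 := fun x' y' h =>
    w0 (ExcDeg48.rep_inj ρ (tt x' y') (by rw [hθ, h, zero_smul, map_zero]))
  have hθm : ∀ a b a' b', θ (a * a') (b * b') = θ a b * θ a' b' := fun a b a' b' => by
    have h := hθ (a * a') (b * b')
    rw [← tt_mul, map_mul, Module.End.mul_apply, hθ, map_smul, hθ, smul_smul] at h
    exact (smul_left_injective ℂ w0 h).symm.trans (mul_comm _ _)
  -- the image under the Weyl element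
  have hy : ρ nb w ∈ (Eg ρ ν 11 0 ⊓ Eg ρ ν 10 0 : Submodule ℂ M) :=
    ⟨(cj_nb 10 11 (by decide)).map_zero hw.1.2, (cj_nb 11 10 (by decide)).map_zero hw.1.1⟩
  obtain ⟨c, hc⟩ : ∃ c : ℂ, P (ρ nb w) = c • w := by
    refine eq_smul_of_line hd hw w0 ⟨?_, eigenProj_mem_eigSub _ _⟩
    exact eigenProj_mem_of_invariant (fun s z hz => x6_U0 hz s.toAdd) _ hy
  -- the relation in SL₂
  have hinv : ρ nb⁻¹ w = ρ (tt 1 (-1)) (ρ nb w) := by
    rw [← Module.End.mul_apply, ← map_mul]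
    congr 2
    apply Subtype.ext
    show (G2Gauss.nn 6)⁻¹ = G2Gauss.T 1 (-1) * G2Gauss.nn 6
    rw [G2Gauss.nn, G2Gauss.C.nR_inv,
      show G2Gauss.T (1 : Fˣ) (-1) =
        G2Gauss.C.nR F (G2Gauss.rt 6) (-1) * G2Gauss.C.nR F (G2Gauss.rt 6) (-1) from ?_, mul_assoc,
      ← G2Gauss.C.nR_inv, inv_mul_cancel, mul_one]
    rw [G2Gauss.C.hR_eq, G2Gauss.hD_eq, show co chevG2 (G2Gauss.rt 6) G2Gauss.i0 = 0 by decide,
      show co chevG2 (G2Gauss.rt 6) G2Gauss.i1 = 1 by decide, zpow_zero, zpow_one]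
  obtain ⟨e, he, hcj⟩ := (cj_nb (F := F) 5 6 (by decide)).inv
  have hsum : ∑ s : F, ρ (xe 6 s) (ρ nb w) = (Fintype.card F : ℂ) • P (ρ nb w) := by
    rw [hP, eigenProj_apply, smul_smul, mul_inv_cancel₀ (Nat.cast_ne_zero.2 Fintype.card_ne_zero),
      one_smul]
    refine Finset.sum_congr rfl fun s _ => ?_
    rw [AddChar.mulShift_zero, AddChar.one_apply, one_smul, x_apply]
  have key : (Fintype.card F : ℂ) * c * (θ 1 (-1) * c) =
      1 + (∑ u : Fˣ, θ 1 (-u⁻¹)) * c := by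
    have hs : ∀ s : F, ρ nb⁻¹ (ρ (xe 6 s) (ρ nb w)) = ρ (xe 5 (e * s)) w := fun s => by
      rw [← Module.End.mul_apply, ← map_mul, ← Module.End.mul_apply, ← map_mul, hcj, inv_mul_cancel_right]
    have h := congrArg (fun z => P (ρ nb⁻¹ z)) hsum
    simp only [map_sum, map_smul, hc, hs] at h
    rw [Fintype.sum_equiv (Equiv.mulLeft₀ e he) (fun s => P (ρ (xe 5 (e * s)) w))
      (fun s => P (ρ (xe 5 s) w)) fun s => rfl, hinv, ← tt_avg, hc, map_smul, hθ,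
      ← Finset.add_sum_erase _ _ (Finset.mem_univ (0 : F)), xe_zero, map_one, Module.End.one_apply, hPw] at h
    have hnz : ∑ s ∈ Finset.univ.erase (0 : F), P (ρ (xe 5 s) w) = ∑ u : Fˣ, (θ 1 (-u⁻¹) * c) • w := by
      refine (Finset.sum_nbij (fun u : Fˣ => (u : F)) (fun u _ => by simp)
        (fun u _ u' _ h => Units.ext h) (fun s hs => ⟨Units.mk0 s (Finset.ne_of_mem_erase hs), by simp⟩)
        fun u _ => ?_).symm
      rw [xe5_eq, map_mul, map_mul, map_mul, Module.End.mul_apply, Module.End.mul_apply,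
        Module.End.mul_apply, xe_Eg_zero hw.2, x6_avg, ← tt_avg, hc, map_smul, hθ, smul_smul, mul_comm]
    rw [hnz, ← Finset.sum_smul, ← Finset.sum_mul] at h
    simp only [smul_smul] at h
    nth_rw 1 [← one_smul ℂ w] at h
    rw [← add_smul] at h
    have h' := smul_left_injective ℂ w0 h
    linear_combination -h'
  have hc0 : c ≠ 0 := fun h => by simp [h] at key
  have hb : ∀ u : Fˣ, θ 1 u = 1 := by
    intro u
    have e1 : nb * tt u u = tt 1 u * tt u u * nb := by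
      apply Subtype.ext
      show G2Gauss.nn 6 * G2Gauss.T u u = G2Gauss.T 1 u * G2Gauss.T u u * G2Gauss.nn 6
      rw [G2Gauss.nn_T, show G2Gauss.chi 6 u u = ch 6 u u from rfl, ch6,
        show (u⁻¹ ^ 3 * u ^ 2)⁻¹ = u by group, show co chevG2 (G2Gauss.rt 6) G2Gauss.i0 = 0 by decide,
        show co chevG2 (G2Gauss.rt 6) G2Gauss.i1 = 1 by decide, zpow_zero, zpow_one]
    have h := congrArg (fun g => P (ρ g w)) e1
    simp only [map_mul, Module.End.mul_apply, hθ, map_smul] at h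
    rw [← tt_avg, ← tt_avg, hc, map_smul, hθ, map_smul, map_smul, hθ] at h
    simp only [smul_smul] at h
    have h' := smul_left_injective ℂ w0 h
    have h'' : θ 1 u * (θ u u * c) = 1 * (θ u u * c) := by linear_combination -h'
    exact mul_right_cancel₀ (mul_ne_zero (hθ0 u u) hc0) h''
  have ha : ∀ u : Fˣ, θ u 1 = 1 := by
    intro u
    have e1 : na * tt u⁻¹ u⁻¹ = tt u 1 * tt u⁻¹ u⁻¹ * na := by
      apply Subtype.ext
      show G2Gauss.nn 7 * G2Gauss.T u⁻¹ u⁻¹ = G2Gauss.T u 1 * G2Gauss.T u⁻¹ u⁻¹ * G2Gauss.nn 7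
      rw [G2Gauss.nn_T, show G2Gauss.chi 7 u⁻¹ u⁻¹ = ch 7 u⁻¹ u⁻¹ from rfl, ch7,
        show (u⁻¹ ^ 2 * u⁻¹⁻¹)⁻¹ = u by group, show co chevG2 (G2Gauss.rt 7) G2Gauss.i0 = 1 by decide,
        show co chevG2 (G2Gauss.rt 7) G2Gauss.i1 = 0 by decide, zpow_one, zpow_zero]
    have h := congrArg (fun g => ρ g w) e1
    simp only [map_mul, Module.End.mul_apply, hθ, map_smul, hna, smul_smul] at h
    have h' := smul_left_injective ℂ w0 h
    exact mul_right_cancel₀ (hθ0 u⁻¹ u⁻¹) (by linear_combination -h' : θ u 1 * θ u⁻¹ u⁻¹ = 1 * θ u⁻¹ u⁻¹)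
  have hall : ∀ x' y', θ x' y' = 1 := fun x' y' => by
    have h := hθm x' 1 1 y'
    rwa [ha, hb, mul_one, one_mul, mul_one] at h
  refine ⟨fun x' y' => by rw [hθ, hall, one_smul], c, ?_, hc⟩
  simp only [hall, Finset.sum_const, Finset.card_univ, nsmul_eq_mul, mul_one, one_mul,
    Fintype.card_units] at key
  rw [Nat.cast_sub Fintype.card_pos, Nat.cast_one] at key
  have : ((Fintype.card F : ℂ) * c + 1) * (c - 1) = 0 := by linear_combination key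
  rcases mul_eq_zero.1 this with h | h
  · exact Or.inl (eq_neg_of_add_eq_zero_left h)
  · exact Or.inr (sub_eq_zero.1 h)

end Cfsg.Agent.Lib.G2Deg48
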