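import Cfsg.Agent.Lib.G2Deg48.Elements
import Cfsg.Agent.Lib.ChevStructure.Order.CertG2
import Cfsg.Agent.Lib.Linear.Order

/-!
The orders used.
-/

set_option autoImplicit false

namespace Cfsg.Agent.Lib.G2Deg48

open Cfsg.Lie Cfsg.Agent.Lib.ChevStructure

variable (F : Type*) [Field F] [Fintype F]

theorem card_Gr : Nat.card (Gr F) =
    Fintype.card F ^ 6 * ((Fintype.card F ^ 2 - 1) * (Fintype.card F ^ 6 - 1)) := by
  have hd1 : ∀ i : Fin chevG2.rank, Order.DataTorus.dG2.getD i.val 0 = 1 := by decide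
  have h := Order.CertG2.card_group (K := F) rfl
  simp only [hd1, Nat.gcd_one_right, Finset.prod_const_one, one_mul, List.map_cons, List.map_nil,
    List.prod_cons, List.prod_nil, mul_one] at h
  rw [show chevG2.nroots / 2 = 6 by decide] at h
  exact h

theorem card_SL3 : Nat.card (Matrix.SpecialLinearGroup (Fin 3) F) =
    Fintype.card F ^ 3 * ((Fintype.card F ^ 2 - 1) * (Fintype.card F ^ 3 - 1)) := by
  have h := Linear.sub_one_mul_card_SL (F := F) 3 (by norm_num)
  rw [Fin.prod_univ_three] at h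
  have hq : 2 ≤ Fintype.card F := Fintype.one_lt_card
  apply Nat.eq_of_mul_eq_mul_left (show 0 < Fintype.card F - 1 by omega)
  rw [h]
  generalize Fintype.card F = q at hq
  simp only [Fin.val_zero, Fin.val_one, Fin.val_two, pow_zero, pow_one]
  have e1 : q ^ 3 - q = q * (q ^ 2 - 1) := by rw [Nat.mul_sub, mul_one, ← pow_succ']
  have e2 : q ^ 3 - q ^ 2 = q ^ 2 * (q - 1) := by rw [Nat.mul_sub, mul_one, ← pow_succ]
  rw [e1, e2]
  ring

end Cfsg.Agent.Lib.G2Deg48
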