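import Cfsg.Agent.Lib.G2Deg48.BorelLine
import Cfsg.Agent.Lib.G2Deg48.Order
import Cfsg.Agent.Lib.ChevStructure.NormalForm
import Cfsg.Agent.Lib.ChevStructure.Poincare
import Cfsg.Agent.Lib.Induced.Integral

/-!
Exclusion of the degree `q³` for `q ≡ 1 (mod 3)` through the matrix coefficient of the fixed line of the
Borel subgroup.
-/

set_option autoImplicit false
set_option linter.unusedSectionVars false

namespace Cfsg.Agent.Lib.G2Deg48

open Cfsg.Lie Cfsg.Agent.Lib.ChevStructure Module Cfsg.Agent.Lib.MinDegree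

/-- The long positive roots among the inverted ones. -/
noncomputable def jl (σ : Equiv.Perm (Rt chevG2)) : ℕ :=
  (G2Gauss.C.inv' σ ∩ G2Gauss.rt '' {0, 1, 5, 6, 10, 11}).ncard

theorem w_long : ∀ (i : Fin chevG2.rank) (n : Fin 12), n ∈ ({0, 1, 5, 6, 10, 11} : Finset (Fin 12)) →
    ∃ m ∈ ({0, 1, 5, 6, 10, 11} : Finset (Fin 12)), chevG2.reflectRoot i n.val = m.val := by decide

theorem p_long : (G2Gauss.C.p G2Gauss.i1 ∈ G2Gauss.rt '' ({0, 1, 5, 6, 10, 11} : Set (Fin 12))) ∧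
    G2Gauss.C.p G2Gauss.i0 ∉ G2Gauss.rt '' ({0, 1, 5, 6, 10, 11} : Set (Fin 12)) := by
  refine ⟨G2Gauss.p_i1 ▸ ⟨6, by simp, rfl⟩, ?_⟩
  rw [G2Gauss.p_i0]
  rintro ⟨n, hn, e⟩
  have : n = 7 := Fin.ext (Fin.ext_iff.1 e :)
  subst this
  simp at hn

theorem w_long_iff (i : Fin chevG2.rank) (r : Rt chevG2) :
    G2Gauss.C.w i r ∈ G2Gauss.rt '' ({0, 1, 5, 6, 10, 11} : Set (Fin 12)) ↔
      r ∈ G2Gauss.rt '' ({0, 1, 5, 6, 10, 11} : Set (Fin 12)) := by
  have key : ∀ s ∈ G2Gauss.rt '' ({0, 1, 5, 6, 10, 11} : Set (Fin 12)),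
      G2Gauss.C.w i s ∈ G2Gauss.rt '' ({0, 1, 5, 6, 10, 11} : Set (Fin 12)) := by
    rintro _ ⟨n, hn, rfl⟩
    obtain ⟨m, hm, e⟩ := w_long i n (by simpa using hn)
    exact ⟨m, by simpa using hm, Fin.ext (e.symm.trans (G2Gauss.C.w_eq i (G2Gauss.rt n)))⟩
  refine ⟨fun h => ?_, key r⟩
  have := key _ h
  rwa [G2Gauss.C.w_w] at this

theorem rank_cases : ∀ i : Fin chevG2.rank, i = G2Gauss.i0 ∨ i = G2Gauss.i1 := by decide

theorem jl_one : jl 1 = 0 := by
  rw [jl, Set.ncard_eq_zero]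
  exact Set.eq_empty_of_forall_notMem fun r hr =>
    (G2Gauss.C.neg_iff_not_pos _).1 hr.1.2 hr.1.1

theorem jl_mul {τ : Equiv.Perm (Rt chevG2)} (hτ : ∀ r, τ r.rev = (τ r).rev) (i : Fin chevG2.rank)
    (h : τ (G2Gauss.C.p i) ∈ G2Gauss.C.Pos) :
    jl (τ * G2Gauss.C.sref i) = jl τ + if i = G2Gauss.i1 then 1 else 0 := by
  classical
  set L := G2Gauss.rt '' ({0, 1, 5, 6, 10, 11} : Set (Fin 12))
  have e : G2Gauss.C.inv' (τ * G2Gauss.C.sref i) ∩ L =
      (if i = G2Gauss.i1 then {G2Gauss.C.p i} else ∅) ∪ G2Gauss.C.w i '' (G2Gauss.C.inv' τ ∩ L) := by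
    ext r
    simp only [Core.inv', Set.mem_inter_iff, Set.mem_setOf_eq, Equiv.Perm.mul_apply, Core.sref_apply,
      Set.mem_union, Set.mem_image]
    constructor
    · rintro ⟨⟨hp, hn⟩, hl⟩
      by_cases hr : r = G2Gauss.C.p i
      · subst hr
        left
        rw [if_pos]
        · rfl
        · rcases (rank_cases i) with rfl | rfl
          · exact absurd hl p_long.2
          · rfl
      · exact Or.inr ⟨G2Gauss.C.w i r, ⟨⟨G2Gauss.C.w_pos hp hr, hn⟩, (w_long_iff i r).2 hl⟩,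
          G2Gauss.C.w_w i r⟩
    · rintro (hr | ⟨x, ⟨⟨hx, hxn⟩, hxl⟩, rfl⟩)
      · split_ifs at hr with hi
        · rw [Set.mem_singleton_iff] at hr
          subst hr hi
          refine ⟨⟨G2Gauss.C.p_pos _, ?_⟩, p_long.1⟩
          rw [G2Gauss.C.w_p, hτ]
          exact G2Gauss.C.rev_neg h
        · exact absurd hr (Set.notMem_empty _)
      · have hxp : x ≠ G2Gauss.C.p i := fun he => (G2Gauss.C.neg_iff_not_pos _).1 hxn (he ▸ h)
        exact ⟨⟨G2Gauss.C.w_pos hx hxp, by rw [G2Gauss.C.w_w]; exact hxn⟩, (w_long_iff i x).2 hxl⟩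
  have hinj := (Function.Involutive.injective (G2Gauss.C.w_w i))
  rw [jl, jl, e]
  split_ifs with hi
  · rw [Set.singleton_union, Set.ncard_insert_of_notMem ?_, Set.ncard_image_of_injective _ hinj]
    rintro ⟨x, ⟨⟨hx, -⟩, -⟩, hxe⟩
    exact G2Gauss.C.w_ne_p hx hxe
  · rw [Set.empty_union, Set.ncard_image_of_injective _ hinj, add_zero]

/-- The coefficient vectors. -/
def vv (r : ℕ) : Fin chevG2.rank → ℤ := fun m => Data.G2.fast.v r m

theorem v_eq (x : Rt chevG2) : G2Gauss.C.v x = vv x.val := rfl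

theorem v_table : ∀ k : Fin chevG2.rank,
    vv 11 k = vv 8 k + vv 9 k := by decide



/-- At most one more long root than short roots is inverted. -/
theorem jl_le {σ : Equiv.Perm (Rt chevG2)} (hσ : σ ∈ G2Gauss.C.WG) :
    2 * jl σ ≤ G2Gauss.C.len σ + 2 := by
  classical
  obtain ⟨L, rfl⟩ := G2Gauss.C.mem_WG_iff.1 hσ
  set S := G2Gauss.C.inv' (G2Gauss.C.pprod L)
  have hlong : S ∩ G2Gauss.rt '' ({0, 1, 5, 6, 10, 11} : Set (Fin 12)) ⊆
      G2Gauss.rt '' ({6, 10, 11} : Set (Fin 12)) := by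
    rintro _ ⟨⟨hp, -⟩, n, hn, rfl⟩
    have h6 : 12 ≤ 2 * n.val := hp
    refine ⟨n, ?_, rfl⟩
    simp only [Set.mem_insert_iff, Set.mem_singleton_iff] at hn ⊢
    rcases hn with rfl | rfl | rfl | rfl | rfl | rfl <;> simp at h6 ⊢
  have h3 : jl (G2Gauss.C.pprod L) ≤ 3 := by
    refine (Set.ncard_le_ncard hlong).trans ((Set.ncard_image_le).trans ?_)
    simp [Set.ncard_insert_of_notMem]
  have hle : jl (G2Gauss.C.pprod L) ≤ G2Gauss.C.len (G2Gauss.C.pprod L) :=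
    Set.ncard_le_ncard Set.inter_subset_left
  by_cases hj : jl (G2Gauss.C.pprod L) ≤ 2
  · omega
  have hj3 : jl (G2Gauss.C.pprod L) = 3 := by omega
  have heq := Set.eq_of_subset_of_ncard_le hlong (by
    show _ ≤ jl (G2Gauss.C.pprod L)
    rw [hj3]
    exact le_trans Set.ncard_image_le (by simp [Set.ncard_insert_of_notMem]))
  have h11' : G2Gauss.rt 11 ∈ S ∩ G2Gauss.rt '' ({0, 1, 5, 6, 10, 11} : Set (Fin 12)) := by
    rw [heq]; exact ⟨11, by simp, rfl⟩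
  have h11 : G2Gauss.rt 11 ∈ S := h11'.1
  have h89 : G2Gauss.rt 8 ∈ S ∨ G2Gauss.rt 9 ∈ S := by
    by_contra hcon
    push Not at hcon
    have hp8 : G2Gauss.C.pprod L (G2Gauss.rt 8) ∈ G2Gauss.C.Pos := by
      by_contra hc
      exact hcon.1 ⟨show 12 ≤ 2 * 8 by norm_num, (G2Gauss.C.neg_iff_not_pos _).2 hc⟩
    have hp9 : G2Gauss.C.pprod L (G2Gauss.rt 9) ∈ G2Gauss.C.Pos := by
      by_contra hc
      exact hcon.2 ⟨show 12 ≤ 2 * 9 by norm_num, (G2Gauss.C.neg_iff_not_pos _).2 hc⟩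
    have hv : G2Gauss.C.v (G2Gauss.C.pprod L (G2Gauss.rt 11)) = (1 : ℕ) • G2Gauss.C.v (G2Gauss.C.pprod L (G2Gauss.rt 8)) +
        (1 : ℕ) • G2Gauss.C.v (G2Gauss.C.pprod L (G2Gauss.rt 9)) := by
      funext m
      rw [Pi.add_apply, one_smul, one_smul, G2Gauss.C.pprod_v, G2Gauss.C.pprod_v _ (G2Gauss.rt 8),
        G2Gauss.C.pprod_v _ (G2Gauss.rt 9), ← Finset.sum_add_distrib]
      refine Finset.sum_congr rfl fun k _ => ?_
      rw [← add_mul, v_eq, v_eq, v_eq]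
      exact congrArg (· * _) (v_table k)
    have hpos : G2Gauss.C.pprod L (G2Gauss.rt 11) ∈ G2Gauss.C.Pos := by
      rw [G2Gauss.C.pos_iff_ht, G2Gauss.C.ht_combo (i := 1) (j := 1) (by simpa using hv)]
      have := G2Gauss.C.ht_pos hp8
      have := G2Gauss.C.ht_pos hp9
      simp
      omega
    exact (G2Gauss.C.neg_iff_not_pos _).1 h11.2 hpos
  have h4 : 4 ≤ S.ncard := by
    rcases h89 with h | h
    all_goals
      refine le_trans ?_ (Set.ncard_le_ncard (Set.insert_subset h (Set.inter_subset_left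
        (t := G2Gauss.rt '' ({0, 1, 5, 6, 10, 11} : Set (Fin 12))))))
      rw [Set.ncard_insert_of_notMem ?_, show (S ∩ _).ncard = 3 from hj3]
      rintro ⟨-, n, hn, e⟩
      have e' : n.val = _ := (Fin.ext_iff.1 e :)
      simp only [Set.mem_insert_iff, Set.mem_singleton_iff] at hn
      rcases hn with rfl | rfl | rfl | rfl | rfl | rfl <;> simp [G2Gauss.rt] at e'
  show 2 * _ ≤ S.ncard + 2
  omega

/-! ### The coefficient -/

variable {F : Type*} [Field F] [Fintype F]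
variable {M : Type*} [AddCommGroup M] [Module ℂ M] [FiniteDimensional ℂ M]

/-- A vector fixed by the Borel subgroup with a left invariant functional, and the Weyl elements on it. -/
structure Line (ρ : Representation ℂ (Gr F) M) where
  /-- The vector. -/
  w : M
  /-- The functional. -/
  φ : M →ₗ[ℂ] ℂ
  /-- The coefficient of the Weyl element of b. -/
  c : ℂ
  φw : φ w = 1
  fixed : ∀ g : Gr F, (g : GL chevG2.Idx F) ∈ chevG2.borelSubgroup F → ρ g w = w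
  inv : ∀ g : Gr F, (g : GL chevG2.Idx F) ∈ chevG2.borelSubgroup F → ∀ z, φ (ρ g z) = φ z
  naw : ρ na w = w
  avg : ∑ s : F, ρ (xe 6 s) (ρ nb w) = ((Fintype.card F : ℂ) * c) • w

namespace Line

variable {ρ : Representation ℂ (Gr F) M} (ℓ : Line ρ)

/-- The coefficient at a monomial element. -/
theorem value : ∀ (m : ℕ) (σ : Equiv.Perm (Rt chevG2)), σ ∈ G2Gauss.C.WG → G2Gauss.C.len σ = m →
    ∀ g : Gr F, (g : GL chevG2.Idx F) ∈ chevG2.monomialSubgroup F →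
      G2Gauss.C.Acts (g : GL chevG2.Idx F) σ → ℓ.φ (ρ g ℓ.w) = ℓ.c ^ jl σ := by
  intro m
  induction m with
  | zero =>
    intro σ hσ hl g hg hga
    have h1 := G2Gauss.C.eq_one_of_len_zero hσ hl
    subst h1
    rw [ℓ.fixed g (G2Gauss.C.diagonal_le_borel (G2Gauss.C.mem_diagonal_of_acts_one hg hga)), ℓ.φw, jl_one,
      pow_zero]
  | succ m ih =>
    intro σ hσ hl g hg hga
    obtain ⟨L, hL⟩ := G2Gauss.C.mem_WG_iff.1 hσ
    have hne : G2Gauss.C.pprod L ≠ 1 := fun e => by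
      rw [← hL, e, G2Gauss.C.len_one] at hl
      exact Nat.succ_ne_zero m hl.symm
    obtain ⟨i, hi⟩ := G2Gauss.C.exists_descent hne
    set τ := σ * G2Gauss.C.sref i with hτ
    have hτm : τ ∈ G2Gauss.C.WG := mul_mem hσ (Subgroup.subset_closure ⟨i, rfl⟩)
    have hτrev : ∀ r, τ r.rev = (τ r).rev := G2Gauss.C.WG_rev ⟨τ, hτm⟩
    have hστ : σ = τ * G2Gauss.C.sref i := by rw [hτ, mul_assoc, G2Gauss.C.sref_mul_self, mul_one]
    have hτp : τ (G2Gauss.C.p i) ∈ G2Gauss.C.Pos := by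
      rw [hτ, Equiv.Perm.mul_apply, G2Gauss.C.sref_apply, G2Gauss.C.w_p, ← hL, G2Gauss.C.pprod_rev]
      exact G2Gauss.C.rev_pos hi
    have hlτ : G2Gauss.C.len τ = m := by
      have := G2Gauss.C.len_mul_sref_pos hτrev hτp
      rw [← hστ, hl] at this
      omega
    set P : Gr F := ⟨G2Gauss.C.P F i, G2Gauss.C.P_mem_group i⟩ with hP
    set g' : Gr F := g * P⁻¹
    have hg' : (g' : GL chevG2.Idx F) ∈ chevG2.monomialSubgroup F :=
      mul_mem hg (inv_mem (G2Gauss.C.P_mem_monomial i))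
    have hPa : G2Gauss.C.Acts (G2Gauss.C.P F i) (G2Gauss.C.sref i) := by
      simpa [Core.wprod, Core.pprod] using G2Gauss.C.acts_wprod F [i]
    have hg'a : G2Gauss.C.Acts (g' : GL chevG2.Idx F) τ := by
      have h := G2Gauss.C.acts_mul F hga (G2Gauss.C.acts_inv F hPa)
      rwa [inv_eq_of_mul_eq_one_right (G2Gauss.C.sref_mul_self i)] at h
    have hIH := ih τ hτm hlτ g' hg' hg'a
    have hg : g = g' * P := (inv_mul_cancel_right g P).symm
    have hj := jl_mul hτrev i hτp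
    rw [← hστ] at hj
    rcases (rank_cases i) with rfl | rfl
    · have e : P = (na : Gr F) := Subtype.ext (by
        show G2Gauss.C.P F G2Gauss.i0 = G2Gauss.nn 7
        rw [Core.P, G2Gauss.p_i0, G2Gauss.nn])
      rw [hg, map_mul, Module.End.mul_apply, e, ℓ.naw, hIH, hj, if_neg (by decide), add_zero]
    · have e : P = (nb : Gr F) := Subtype.ext (by
        show G2Gauss.C.P F G2Gauss.i1 = G2Gauss.nn 6
        rw [Core.P, G2Gauss.p_i1, G2Gauss.nn])
      obtain ⟨ee, he⟩ := hg'a (G2Gauss.rt 6)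
      have hsh : ∀ s : F, ℓ.φ (ρ g' (ρ (xe 6 s) (ρ nb ℓ.w))) = ℓ.φ (ρ g' (ρ nb ℓ.w)) := by
        intro s
        have hpos : τ (G2Gauss.rt 6) ∈ G2Gauss.C.Pos := G2Gauss.p_i1 ▸ hτp
        have e' : g' * xe 6 s =
            ⟨G2Gauss.C.X F (τ (G2Gauss.rt 6)) ((ee : F) * s), G2Gauss.C.X_mem_group _ _⟩ * g' := by
          apply Subtype.ext
          show (g' : GL chevG2.Idx F) * G2Gauss.X 6 s = G2Gauss.C.X F _ _ * (g' : GL chevG2.Idx F)
          rw [← he, inv_mul_cancel_right]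
          rfl
        rw [← Module.End.mul_apply, ← map_mul, e', map_mul, Module.End.mul_apply,
          ℓ.inv _ (G2Gauss.C.X_mem_borel hpos _)]
      have h := congrArg (fun z => ℓ.φ (ρ g' z)) ℓ.avg
      simp only [map_sum, map_smul, hsh, Finset.sum_const, Finset.card_univ, nsmul_eq_mul,
        smul_eq_mul, hIH] at h
      rw [hg, map_mul, Module.End.mul_apply, e, hj, if_pos rfl, pow_succ]
      refine mul_left_cancel₀ (Nat.cast_ne_zero.2 Fintype.card_ne_zero :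
        ((Fintype.card F : ℂ)) ≠ 0) ?_
      rw [h]
      ring

theorem value_cell (σ : G2Gauss.C.WG) (g : Gr F) {b u : GL chevG2.Idx F}
    (hb : b ∈ chevG2.borelSubgroup F)
    (hu : u ∈ G2Gauss.C.US F (G2Gauss.C.inv' (σ : Equiv.Perm (Rt chevG2))))
    (hg : (g : GL chevG2.Idx F) = b * G2Gauss.C.rep F σ * u) :
    ℓ.φ (ρ g ℓ.w) = ℓ.c ^ jl σ ∧ ℓ.φ (ρ g⁻¹ ℓ.w) = ℓ.c ^ jl ((σ : Equiv.Perm (Rt chevG2))⁻¹) := by
  have huB : u ∈ chevG2.borelSubgroup F :=
    G2Gauss.C.posUS_le_borel (G2Gauss.C.US_mono F (fun _ h => h.1) hu)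
  set b' : Gr F := ⟨b, G2Gauss.C.borel_le_group hb⟩
  set u' : Gr F := ⟨u, G2Gauss.C.borel_le_group huB⟩
  set n' : Gr F := ⟨G2Gauss.C.rep F σ, G2Gauss.C.monomial_le_group (G2Gauss.C.rep_mem σ)⟩
  have e : g = b' * n' * u' := Subtype.ext hg
  subst e
  constructor
  · rw [map_mul, map_mul, Module.End.mul_apply, Module.End.mul_apply, ℓ.fixed u' huB, ℓ.inv b' hb]
    exact ℓ.value _ _ σ.2 rfl n' (G2Gauss.C.rep_mem σ) (G2Gauss.C.acts_rep F σ)
  · rw [mul_inv_rev, mul_inv_rev, map_mul, map_mul, Module.End.mul_apply, Module.End.mul_apply,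
      ℓ.fixed b'⁻¹ (inv_mem hb), ℓ.inv u'⁻¹ (inv_mem huB)]
    exact ℓ.value _ _ (inv_mem σ.2) rfl n'⁻¹ (inv_mem (G2Gauss.C.rep_mem σ))
      (G2Gauss.C.acts_inv F (G2Gauss.C.acts_rep F σ))

end Line

/-- Inverse elements invert equally many long roots. -/
theorem jl_inv {σ : Equiv.Perm (Rt chevG2)} (hσ : σ ∈ G2Gauss.C.WG) : jl σ⁻¹ = jl σ := by
  set Lg := G2Gauss.rt '' ({0, 1, 5, 6, 10, 11} : Set (Fin 12))
  have hrev : ∀ r, σ r.rev = (σ r).rev := G2Gauss.C.WG_rev ⟨σ, hσ⟩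
  have hl : ∀ (τ : Equiv.Perm (Rt chevG2)), τ ∈ G2Gauss.C.WG → ∀ r, τ r ∈ Lg ↔ r ∈ Lg := by
    intro τ hτ
    obtain ⟨L, rfl⟩ := G2Gauss.C.mem_WG_iff.1 hτ
    induction L with
    | nil => intro r; rfl
    | cons i L ih =>
      intro r
      rw [G2Gauss.C.pprod_cons, Equiv.Perm.mul_apply, G2Gauss.C.sref_apply, w_long_iff,
        ih (G2Gauss.C.mem_WG_iff.2 ⟨L, rfl⟩)]
  have hrl : ∀ r : Rt chevG2, r ∈ Lg → r.rev ∈ Lg := by
    rintro _ ⟨n, hn, rfl⟩
    refine ⟨n.rev, ?_, (G2Gauss.rt_rev n).symm⟩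
    simp only [Set.mem_insert_iff, Set.mem_singleton_iff] at hn ⊢
    rcases hn with rfl | rfl | rfl | rfl | rfl | rfl <;> decide
  refine (Set.ncard_congr (fun r _ => (σ r).rev) ?_ ?_ ?_).symm
  · rintro r ⟨⟨hp, hn⟩, hr⟩
    refine ⟨⟨G2Gauss.C.rev_pos hn, ?_⟩, hrl _ ((hl σ hσ r).2 hr)⟩
    rw [← hrev, Equiv.Perm.inv_def, Equiv.symm_apply_apply]
    exact G2Gauss.C.rev_neg hp
  · intro r s _ _ h
    exact σ.injective (Fin.rev_injective h)
  · rintro s ⟨⟨hp, hn⟩, hs⟩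
    have e : σ (σ⁻¹ s) = s := by simp
    refine ⟨(σ⁻¹ s).rev, ⟨⟨G2Gauss.C.rev_pos hn, ?_⟩, hrl _ ((hl σ⁻¹ (inv_mem hσ) s).2 hs)⟩, ?_⟩
    · rw [hrev, e]; exact G2Gauss.C.rev_neg hp
    · rw [hrev, e, G2Gauss.C.rev_rev]

/-- The orthogonality relation for a projection onto a line. -/
theorem sum_coeff {G : Type*} [Group G] [Fintype G] (ρ : Representation ℂ G M) [ρ.IsIrreducible]
    (w : M) (φ : M →ₗ[ℂ] ℂ) (h : φ w = 1) :
    (finrank ℂ M : ℂ) * ∑ g : G, φ (ρ g w) * φ (ρ g⁻¹ w) = Nat.card G := by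
  set E := φ.smulRight w with hE
  set T : Module.End ℂ M := ∑ g : G, ρ g * E * ρ g⁻¹ with hT
  have hcomm : ∀ x : G, T * ρ x = ρ x * T := by
    intro x
    rw [hT, Finset.sum_mul, Finset.mul_sum]
    refine Fintype.sum_equiv (Equiv.mulLeft x⁻¹) _ _ fun g => ?_
    rw [Equiv.coe_mulLeft, mul_inv_rev, inv_inv, map_mul, map_mul]
    simp only [← mul_assoc, ← map_mul, mul_inv_cancel, one_mul]
    simp only [mul_assoc, ← map_mul]
  obtain ⟨lam, hlam⟩ :=
    (Representation.IsIrreducible.algebraMap_intertwiningMap_bijective_of_isAlgClosed (ρ := ρ)).2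
      ({ toLinearMap := T
         isIntertwining' := fun x => hcomm x } : Representation.IntertwiningMap ρ ρ)
  have hTl : T = algebraMap ℂ (Module.End ℂ M) lam :=
    (congrArg Representation.IntertwiningMap.toLinearMap hlam).symm
  have hTl' : T = lam • (1 : Module.End ℂ M) := by rw [hTl, Algebra.algebraMap_eq_smul_one]
  have htr : LinearMap.trace ℂ M T = Nat.card G := by
    rw [hT, map_sum]
    have : ∀ g : G, LinearMap.trace ℂ M (ρ g * E * ρ g⁻¹) = 1 := fun g => by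
      rw [LinearMap.trace_mul_comm, ← mul_assoc, ← map_mul, inv_mul_cancel, map_one, one_mul, hE,
        LinearMap.trace_smulRight, h]
    simp [this, Nat.card_eq_fintype_card]
  rw [hTl', map_smul, LinearMap.trace_one, smul_eq_mul] at htr
  have hsum : ∑ g : G, φ (ρ g w) * φ (ρ g⁻¹ w) = lam := by
    have h2 := congrArg (fun S : Module.End ℂ M => φ (S w)) hTl'
    simp only [hT, LinearMap.sum_apply, map_sum, Module.End.mul_apply, hE, LinearMap.smulRight_apply,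
      map_smul, smul_eq_mul, LinearMap.smul_apply, Module.End.one_apply, h, mul_one] at h2
    rw [← h2]
    exact Finset.sum_congr rfl fun g _ => mul_comm _ _
  rw [hsum, mul_comm]
  exact htr

/-- The degree `q³` does not occur with a fixed line as described. -/
theorem not_deg_cube (ρ : Representation ℂ (Gr F) M) [ρ.IsIrreducible] (ℓ : Line ρ)
    (hc : (Fintype.card F : ℂ) * ℓ.c = -1 ∨ ℓ.c = 1)
    (hk : finrank ℂ M = Fintype.card F ^ 3) : False := by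
  classical
  have : Fintype (Gr F) := Fintype.ofFinite _
  have : Fintype G2Gauss.C.WG := Fintype.ofFinite _
  set q := Fintype.card F with hq
  have hq2 : 2 ≤ q := Fintype.one_lt_card
  set B := chevG2.borelSubgroup F
  -- the sum over the cells
  have hcells : ∑ g : Gr F, ℓ.φ (ρ g ℓ.w) * ℓ.φ (ρ g⁻¹ ℓ.w) =
      (Nat.card B : ℂ) * ∑ σ : G2Gauss.C.WG,
        (q : ℂ) ^ G2Gauss.C.len (σ : Equiv.Perm (Rt chevG2)) * ℓ.c ^ (2 * jl (σ : Equiv.Perm (Rt chevG2))) := by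
    have : ∀ σ : G2Gauss.C.WG, Fintype (B × G2Gauss.C.US F (G2Gauss.C.inv' (σ : Equiv.Perm (Rt chevG2)))) :=
      fun σ => Fintype.ofFinite _
    rw [← (Equiv.ofBijective
      (fun x : Σ σ : G2Gauss.C.WG, B × G2Gauss.C.US F (G2Gauss.C.inv' (σ : Equiv.Perm (Rt chevG2))) =>
        (⟨x.2.1.1 * G2Gauss.C.rep F x.1 * x.2.2.1, mul_mem (mul_mem (G2Gauss.C.borel_le_group x.2.1.2)
          (G2Gauss.C.monomial_le_group (G2Gauss.C.rep_mem x.1))) (G2Gauss.C.US_le_group _ x.2.2.2)⟩ :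
            Gr F)) ⟨?_, ?_⟩).sum_comp, Fintype.sum_sigma, Finset.mul_sum]
    · refine Finset.sum_congr rfl fun σ _ => ?_
      have hval : ∀ (g : Gr F) (x : B × G2Gauss.C.US F (G2Gauss.C.inv' (σ : Equiv.Perm (Rt chevG2)))),
          (g : GL chevG2.Idx F) = x.1.1 * G2Gauss.C.rep F σ * x.2.1 →
          ℓ.φ (ρ g ℓ.w) * ℓ.φ (ρ g⁻¹ ℓ.w) = ℓ.c ^ (2 * jl (σ : Equiv.Perm (Rt chevG2))) := by
        intro g x hx
        obtain ⟨h1, h2⟩ := ℓ.value_cell σ g x.1.2 x.2.2 hx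
        rw [h1, h2, jl_inv σ.2, ← pow_add, two_mul]
      rw [Finset.sum_congr rfl fun x _ => hval _ x (by exact rfl),
        Finset.sum_const, Finset.card_univ, nsmul_eq_mul, ← Nat.card_eq_fintype_card, Nat.card_prod,
        G2Gauss.H.card_US_inv' σ, Nat.card_eq_fintype_card (α := F)]
      push_cast
      ring
    · rintro ⟨σ, ⟨b, hb⟩, ⟨u, hu⟩⟩ ⟨τ, ⟨b', hb'⟩, ⟨u', hu'⟩⟩ h
      obtain ⟨rfl, rfl, rfl⟩ := G2Gauss.H.normalForm_unique hb hb' hu hu' (congrArg Subtype.val h)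
      rfl
    · rintro ⟨g, hg⟩
      obtain ⟨σ, b, hb, u, hu, rfl⟩ := G2Gauss.H.exists_normalForm hg
      exact ⟨⟨σ, ⟨b, hb⟩, ⟨u, hu⟩⟩, rfl⟩
  have hG : (Nat.card (Gr F) : ℂ) =
      (Nat.card B : ℂ) * ∑ σ : G2Gauss.C.WG, (q : ℂ) ^ G2Gauss.C.len (σ : Equiv.Perm (Rt chevG2)) := by
    rw [G2Gauss.H.card_group, Nat.card_eq_fintype_card (α := F), ← hq]
    push_cast
    rfl
  have h := sum_coeff ρ ℓ.w ℓ.φ ℓ.φw
  rw [hcells, hk, hG, mul_left_comm] at h
  have h' := mul_left_cancel₀ (Nat.cast_ne_zero.2 Nat.card_pos.ne' : (Nat.card B : ℂ) ≠ 0) h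
  -- the right side is a multiple of q
  let N : G2Gauss.C.WG → ℕ := fun σ =>
    if ℓ.c = 1 then G2Gauss.C.len (σ : Equiv.Perm (Rt chevG2)) + 2
    else G2Gauss.C.len (σ : Equiv.Perm (Rt chevG2)) + 2 - 2 * jl (σ : Equiv.Perm (Rt chevG2))
  have hterm : ∀ σ : G2Gauss.C.WG, ((q ^ 3 : ℕ) : ℂ) *
      ((q : ℂ) ^ G2Gauss.C.len (σ : Equiv.Perm (Rt chevG2)) * ℓ.c ^ (2 * jl (σ : Equiv.Perm (Rt chevG2)))) =
      (q : ℂ) * (q : ℂ) ^ N σ := by
    intro σ
    by_cases hc1 : ℓ.c = 1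
    · simp only [N, if_pos hc1, hc1, one_pow, mul_one]
      push_cast
      ring
    · have hqc := hc.resolve_right hc1
      have hsq : ((q : ℂ) * ℓ.c) ^ (2 * jl (σ : Equiv.Perm (Rt chevG2))) = 1 := by
        rw [hqc, pow_mul, neg_one_sq, one_pow]
      obtain ⟨d, hd⟩ := Nat.le.dest (jl_le σ.2)
      simp only [N, if_neg hc1]
      rw [← hd, Nat.add_sub_cancel_left]
      rw [mul_pow] at hsq
      calc ((q ^ 3 : ℕ) : ℂ) * ((q : ℂ) ^ G2Gauss.C.len (σ : Equiv.Perm (Rt chevG2)) * ℓ.c ^ (2 * jl (σ : Equiv.Perm (Rt chevG2))))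
          = (q : ℂ) * ((q : ℂ) ^ (G2Gauss.C.len (σ : Equiv.Perm (Rt chevG2)) + 2) * ℓ.c ^ (2 * jl (σ : Equiv.Perm (Rt chevG2)))) := by
            push_cast; ring
        _ = (q : ℂ) * ((q : ℂ) ^ d * ((q : ℂ) ^ (2 * jl (σ : Equiv.Perm (Rt chevG2))) * ℓ.c ^ (2 * jl (σ : Equiv.Perm (Rt chevG2))))) := by
            rw [← hd, pow_add]; ring
        _ = _ := by rw [hsq, mul_one]
  rw [Finset.mul_sum, Finset.sum_congr rfl fun σ _ => hterm σ, ← Finset.mul_sum] at h'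
  have hnat : q * ∑ σ : G2Gauss.C.WG, q ^ N σ =
      ∑ σ : G2Gauss.C.WG, q ^ G2Gauss.C.len (σ : Equiv.Perm (Rt chevG2)) := by exact_mod_cast h'
  rw [← Finset.add_sum_erase Finset.univ (fun σ : G2Gauss.C.WG => q ^ G2Gauss.C.len (σ : Equiv.Perm (Rt chevG2)))
      (Finset.mem_univ (1 : G2Gauss.C.WG))] at hnat
  rw [show G2Gauss.C.len ((1 : G2Gauss.C.WG) : Equiv.Perm (Rt chevG2)) = 0 from G2Gauss.C.len_one,
    pow_zero] at hnat
  have hdvd : q ∣ ∑ σ ∈ Finset.univ.erase (1 : G2Gauss.C.WG),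
      q ^ G2Gauss.C.len (σ : Equiv.Perm (Rt chevG2)) :=
    Finset.dvd_sum fun σ hσ => dvd_pow_self q fun e =>
      Finset.ne_of_mem_erase hσ (Subtype.ext (G2Gauss.C.eq_one_of_len_zero σ.2 e))
  have h1 : q ∣ 1 := (Nat.dvd_add_left hdvd).1 ⟨_, hnat.symm⟩
  have := Nat.le_of_dvd one_pos h1
  omega

/-- The averaged projection gives the functional. -/
theorem exists_line_of (ρ : Representation ℂ (Gr F) M) {ν : AddChar F ℂ} (hν : ν ≠ 1)
    (hF : 5 ≤ Fintype.card F) {w : M} (w0 : w ≠ 0)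
    (hw : w ∈ Eg ρ ν 11 0 ⊓ Eg ρ ν 10 0 ⊓ Eg ρ ν 6 0)
    (hd : finrank ℂ (↥(Eg ρ ν 11 0 ⊓ Eg ρ ν 10 0 ⊓ Eg ρ ν 6 0)) ≤ 1) :
    ∃ ℓ : Line ρ, (Fintype.card F : ℂ) * ℓ.c = -1 ∨ ℓ.c = 1 := by
  classical
  obtain ⟨h7, -, hna⟩ := short_fixed hν hF w0 hw hd
  obtain ⟨h9, h8⟩ := bot_mem hν hF hd hw
  obtain ⟨hT, c, hc, hcw⟩ := long_coeff hν hF w0 hw hd
  have hfix : ∀ g : Gr F, (g : GL chevG2.Idx F) ∈ chevG2.borelSubgroup F → ρ g w = w := by
    intro g hg
    obtain ⟨x', y', u, hu, e⟩ := G2Gauss.mem_borel hg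
    have hu' : ρ ⟨u, G2Gauss.U_le_group _ hu⟩ w = w := by
      let H : Subgroup (Gr F) :=
        { carrier := {h | ρ h w = w}
          one_mem' := by simp
          mul_mem' := fun {a b} (ha : ρ a w = w) (hb : ρ b w = w) => by
            show ρ (a * b) w = w
            rw [map_mul, Module.End.mul_apply, hb, ha]
          inv_mem' := fun {a} (ha : ρ a w = w) => by
            show ρ a⁻¹ w = w
            conv_lhs => rw [← ha]
            rw [← Module.End.mul_apply, ← map_mul, inv_mul_cancel, map_one, Module.End.one_apply] }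
      have hle : G2Gauss.U G2Gauss.Pos F ≤ H.map (chevG2.group F).subtype := by
        refine G2Gauss.U_le fun n hn t => ⟨xe n t, ?_, rfl⟩
        show ρ (xe n t) w = w
        simp only [G2Gauss.Pos, Finset.mem_insert, Finset.mem_singleton] at hn
        rcases hn with rfl | rfl | rfl | rfl | rfl | rfl
        · exact xe_Eg_zero hw.2 t
        · exact xe_Eg_zero h7 t
        · exact xe_Eg_zero h8 t
        · exact xe_Eg_zero h9 t
        · exact xe_Eg_zero hw.1.2 t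
        · exact xe_Eg_zero hw.1.1 t
      obtain ⟨h, hh, rfl⟩ := hle hu
      exact hh
    rw [show g = tt x' y' * ⟨u, G2Gauss.U_le_group _ hu⟩ from Subtype.ext e, map_mul, Module.End.mul_apply,
      hu', hT]
  set B := (chevG2.borelSubgroup F).subgroupOf (chevG2.group F)
  have : Fintype B := Fintype.ofFinite _
  set E : M →ₗ[ℂ] M := (Fintype.card B : ℂ)⁻¹ • ∑ b : B, ρ (b : Gr F) with hE
  have hBne : (Fintype.card B : ℂ) ≠ 0 := Nat.cast_ne_zero.2 Fintype.card_ne_zero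
  have hEmem : ∀ z, ∀ n : Fin 12, 12 ≤ 2 * n.val → ∀ s, ρ (xe n s) (E z) = E z := by
    intro z n hn s
    rw [hE]
    simp only [LinearMap.smul_apply, LinearMap.sum_apply, map_smul, map_sum]
    congr 1
    refine Fintype.sum_equiv (Equiv.mulLeft (⟨xe n s, G2Gauss.C.X_mem_borel hn s⟩ : B)) _ _ fun b => ?_
    rw [Equiv.coe_mulLeft, Subgroup.coe_mul, map_mul, Module.End.mul_apply]
  have hEg : ∀ z, ∀ n : Fin 12, 12 ≤ 2 * n.val → E z ∈ Eg ρ ν n 0 := fun z n hn =>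
    mem_Eg_zero.2 (hEmem z n hn)
  have hline : ∀ z, ∃ a : ℂ, E z = a • w := fun z =>
    eq_smul_of_line hd hw w0
      ⟨⟨hEg z 11 (by decide), hEg z 10 (by decide)⟩, hEg z 6 (by decide)⟩
  have hEw : E w = w := by
    rw [hE]
    simp only [LinearMap.smul_apply, LinearMap.sum_apply]
    rw [Finset.sum_congr rfl fun (b : B) _ => hfix b b.2, Finset.sum_const, Finset.card_univ,
      ← Nat.cast_smul_eq_nsmul ℂ, smul_smul, inv_mul_cancel₀ hBne, one_smul]
  obtain ⟨f, hf⟩ : ∃ f : M →ₗ[ℂ] ℂ, f w ≠ 0 := by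
    by_contra h
    push Not at h
    exact w0 ((Module.forall_dual_apply_eq_zero_iff ℂ w).1 h)
  refine ⟨{ w := w, φ := (f w)⁻¹ • (f ∘ₗ E), c := c, φw := ?_, fixed := hfix, inv := ?_, naw := hna,
            avg := ?_ }, hc⟩
  · simp [hEw, hf]
  · intro g hg z
    simp only [LinearMap.smul_apply, LinearMap.comp_apply]
    congr 2
    rw [hE]
    simp only [LinearMap.smul_apply, LinearMap.sum_apply]
    congr 1
    refine Fintype.sum_equiv (Equiv.mulRight (⟨g, hg⟩ : B)) _ _ fun b => ?_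
    rw [Equiv.coe_mulRight, Subgroup.coe_mul, map_mul, Module.End.mul_apply]
  · rw [eigenProj_apply] at hcw
    rw [← smul_smul, ← hcw, smul_smul, mul_inv_cancel₀ (Nat.cast_ne_zero.2 Fintype.card_ne_zero), one_smul]
    exact Finset.sum_congr rfl fun s _ => by rw [AddChar.mulShift_zero, AddChar.one_apply, one_smul, x_apply]

end Cfsg.Agent.Lib.G2Deg48
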