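import Cfsg.Agent.Lib.G2Deg48.Central
import Cfsg.Agent.Lib.G2Deg48.Hecke

/-!
The lower bounds when 3 is invertible.
-/

set_option autoImplicit false
set_option linter.unusedSectionVars false

namespace Cfsg.Agent.Lib.G2Deg48

open Module

variable {F : Type*} [Field F] [Fintype F]

theorem three_ne_zero_of_mod (h : Fintype.card F % 3 ≠ 0) : (3 : F) ≠ 0 := by
  intro h3
  obtain ⟨p, hp⟩ := CharP.exists F
  have : Fact p.Prime := ⟨CharP.char_is_prime F p⟩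
  have hp3 : p ∣ 3 := (CharP.cast_eq_zero_iff F p 3).1 (by exact_mod_cast h3)
  have : p = 3 := (Nat.prime_dvd_prime_iff_eq Fact.out Nat.prime_three).1 hp3
  subst this
  obtain ⟨n, -, hn⟩ := FiniteField.card F 3
  exact h (by rw [hn]; exact Nat.mod_eq_zero_of_dvd (dvd_pow_self 3 n.ne_zero))

/-- A nontrivial additive character of the field. -/
theorem exists_nu : ∃ ν : AddChar F ℂ, ν ≠ 1 := by
  classical
  have : Nontrivial (AddChar F ℂ) := by
    rw [← Fintype.one_lt_card_iff_nontrivial, AddChar.card_eq]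
    exact Fintype.one_lt_card
  exact exists_ne 1

theorem case_three {k : ℕ} (ρ : Representation ℂ (Gr F) (Fin k → ℂ)) (hρ : ρ.IsIrreducible)
    (hk : 2 ≤ k) (h0 : Fintype.card F % 3 ≠ 0) (hF : 5 ≤ Fintype.card F) :
    Fintype.card F ^ 3 - 1 ≤ k ∧ (Fintype.card F % 3 = 1 → Fintype.card F ^ 3 + 1 ≤ k) := by
  classical
  obtain ⟨ν, hν⟩ := exists_nu (F := F)
  have h3 := three_ne_zero_of_mod h0
  obtain ⟨hlow, hsmall⟩ := three_bound (ρ := ρ) hν h3 hF (root_nontrivial ρ hρ hk (by omega) 11)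
  have hfr : finrank ℂ (Fin k → ℂ) = k := finrank_fin_fun ℂ
  rw [hfr] at hlow
  refine ⟨hlow, fun h1 => ?_⟩
  by_contra hlt
  obtain ⟨hm, hn, hd, hdim⟩ := hsmall (by rw [hfr]; omega)
  obtain ⟨ω, hω, hω1⟩ : ∃ ω : Fˣ, ω ^ 3 = 1 ∧ ω ≠ 1 := by
    have : Fact (Nat.Prime 3) := ⟨Nat.prime_three⟩
    obtain ⟨ω, hω⟩ := exists_prime_orderOf_dvd_card (G := Fˣ) 3 (by rw [Fintype.card_units]; omega)
    exact ⟨ω, hω ▸ pow_orderOf_eq_one ω, fun h => by simp [h] at hω⟩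
  have := hρ
  have hχ := char_hh (ρ := ρ) hν h3 hF hm hn hd hω hω1
  rcases Nat.eq_zero_or_pos (finrank ℂ (↥(Eg ρ ν 11 0 ⊓ Eg ρ ν 10 0 ⊓ Eg ρ ν 6 0))) with hd0 | hd0
  · rw [hd0, add_zero] at hdim
    rw [hd0, Nat.cast_zero, add_zero] at hχ
    exact not_deg_sub ρ hF hω hdim hχ
  · obtain ⟨w, hw, w0⟩ := inj_nontriv hd0
    obtain ⟨ℓ, hc⟩ := exists_line_of ρ hν hF w0 hw hd
    refine not_deg_cube ρ ℓ hc ?_
    rw [hdim]
    have : 1 ≤ Fintype.card F ^ 3 := Nat.one_le_pow _ _ (by omega)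
    omega

end Cfsg.Agent.Lib.G2Deg48
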