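import Cfsg.Agent.Lib.G2Deg48.FourBound
import Cfsg.Agent.Lib.G2Deg48.Order
import Cfsg.Agent.Lib.Characters.Degree

/-!
The lower bound in characteristic three.
-/

set_option autoImplicit false
set_option linter.unusedSectionVars false

namespace Cfsg.Agent.Lib.G2Deg48

open Module

variable {F : Type*} [Field F] [Fintype F]

theorem excluded {q k : ℕ} (hq : 9 ≤ q) (hd : k ∣ q ^ 6 * ((q ^ 2 - 1) * (q ^ 6 - 1)))
    (h : k + 2 = q ^ 4 + q ^ 2 ∨ k + 1 = q ^ 4 + q ^ 2 ∨ k = q ^ 4 + q ^ 2) : False := by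
  obtain ⟨j, hj⟩ : ∃ j, q ^ 2 = j + 81 := ⟨q ^ 2 - 81, by have := Nat.mul_le_mul hq hq; rw [sq]; omega⟩
  have e4 : q ^ 4 = (j + 81) ^ 2 := by rw [← hj, ← pow_mul]
  have e6 : q ^ 6 = (j + 81) ^ 3 := by rw [← hj, ← pow_mul]
  rw [e4, hj] at h
  rw [e6, hj] at hd
  have hd' : (k : ℤ) ∣ ((j : ℤ) + 81) ^ 3 * (((j : ℤ) + 80) * (((j : ℤ) + 81) ^ 3 - 1)) := by
    have := Int.natCast_dvd_natCast.2 hd
    rw [Nat.cast_mul, Nat.cast_mul, Nat.cast_sub (by omega), Nat.cast_sub (Nat.one_le_pow _ _ (by omega))] at this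
    push_cast at this
    rwa [show (j : ℤ) + 81 - 1 = j + 80 by ring] at this
  set Q : ℤ := (j : ℤ) + 81 with hQ
  have hQ81 : 81 ≤ Q := by omega
  rw [show (j : ℤ) + 80 = Q - 1 by ring] at hd'
  rcases h with h | h | h
  · have hk : (k : ℤ) = (Q - 1) * (Q + 2) := by
      have : (k : ℤ) + 2 = Q ^ 2 + Q := by rw [hQ]; exact_mod_cast h
      linear_combination this
    rw [hk, show Q ^ 3 * ((Q - 1) * (Q ^ 3 - 1)) = (Q - 1) * (Q ^ 3 * (Q ^ 3 - 1)) by ring] at hd'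
    have h2 := Int.dvd_of_mul_dvd_mul_left (by omega) hd'
    rw [show Q ^ 3 * (Q ^ 3 - 1) = (Q + 2) * (Q ^ 5 - 2 * Q ^ 4 + 4 * Q ^ 3 - 9 * Q ^ 2 + 18 * Q - 36) + 72 by
      ring] at h2
    have := Int.le_of_dvd (by norm_num) ((dvd_add_right (dvd_mul_right _ _)).1 h2)
    omega
  · have hk : (k : ℤ) = Q ^ 2 + Q - 1 := by
      have : (k : ℤ) + 1 = Q ^ 2 + Q := by rw [hQ]; exact_mod_cast h
      linear_combination this
    rw [hk, show Q ^ 3 * ((Q - 1) * (Q ^ 3 - 1)) = (Q ^ 2 + Q - 1) *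
      (Q ^ 5 - 2 * Q ^ 4 + 3 * Q ^ 3 - 6 * Q ^ 2 + 10 * Q - 16) + (26 * Q - 16) by ring] at hd'
    have := Int.le_of_dvd (by omega) ((dvd_add_right (dvd_mul_right _ _)).1 hd')
    nlinarith
  · have hk : (k : ℤ) = (Q + 1) * Q := by
      have : (k : ℤ) = Q ^ 2 + Q := by rw [hQ]; exact_mod_cast h
      linear_combination this
    rw [hk] at hd'
    have h2 : (Q + 1) ∣ Q ^ 3 * ((Q - 1) * (Q ^ 3 - 1)) := (dvd_mul_right _ _).trans hd'
    rw [show Q ^ 3 * ((Q - 1) * (Q ^ 3 - 1)) =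
      (Q + 1) * (Q ^ 6 - 2 * Q ^ 5 + 2 * Q ^ 4 - 3 * Q ^ 3 + 4 * Q ^ 2 - 4 * Q + 4) + (-4) by ring] at h2
    have := Int.le_of_dvd (by norm_num) (dvd_neg.1 ((dvd_add_right (dvd_mul_right _ _)).1 h2))
    omega

theorem case_zero {k : ℕ} (ρ : Representation ℂ (Gr F) (Fin k → ℂ)) (hρ : ρ.IsIrreducible)
    (hk : 2 ≤ k) (h0 : Fintype.card F % 3 = 0) (hF : 3 < Fintype.card F) :
    Fintype.card F ^ 4 + Fintype.card F ^ 2 + 1 ≤ k := by
  classical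
  obtain ⟨p, hp⟩ := CharP.exists F
  have : Fact p.Prime := ⟨CharP.char_is_prime F p⟩
  obtain ⟨n, -, hn⟩ := FiniteField.card F p
  have hp3 : p = 3 := by
    have : 3 ∣ p ^ (n : ℕ) := hn ▸ Nat.dvd_of_mod_eq_zero h0
    exact ((Nat.prime_dvd_prime_iff_eq Nat.prime_three Fact.out).1 (Nat.prime_three.dvd_of_dvd_pow this)).symm
  subst hp3
  have h3 : (3 : F) = 0 := by exact_mod_cast CharP.cast_eq_zero F 3
  have hF9 : 9 ≤ Fintype.card F := by
    rw [hn] at hF ⊢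
    have : 2 ≤ (n : ℕ) := by
      by_contra h
      interval_cases (n : ℕ) <;> omega
    exact le_trans (by norm_num) (Nat.pow_le_pow_right (by norm_num : 1 ≤ 3) this)
  obtain ⟨ν, hν⟩ : ∃ ν : AddChar F ℂ, ν ≠ 1 := by
    have : Nontrivial (AddChar F ℂ) := by
      rw [← Fintype.one_lt_card_iff_nontrivial, AddChar.card_eq]; exact Fintype.one_lt_card
    exact exists_ne 1
  have := hρ
  have hfr : finrank ℂ (Fin k → ℂ) = k := finrank_fin_fun ℂ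
  rcases four_cases (ρ := ρ) hν h3 hF9 (root_nontrivial ρ hρ hk (by omega) 9) with h | ⟨hqa, hqb, h⟩
  · rwa [hfr] at h
  rw [hfr] at h
  have hb := bot_bound (ρ := ρ) hν h3 (by omega) hqa hqb
  by_contra hlt
  have hdvd : k ∣ Nat.card (Gr F) := by
    have := Characters.Degree.finrank_dvd_card ρ
    rwa [hfr] at this
  rw [card_Gr] at hdvd
  refine excluded hF9 hdvd ?_
  omega

end Cfsg.Agent.Lib.G2Deg48
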