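import Cfsg.Agent.Lib.G2Deg48.TraceValue
import Cfsg.Agent.Lib.G2Deg48.Order
import Cfsg.Agent.Lib.ChevStructure.G2Torus.Main
import Cfsg.Agent.Lib.Induced.Integral

/-!
Exclusion of the degree `q³ - 1` for `q ≡ 1 (mod 3)` through the central character.
-/

set_option autoImplicit false
set_option linter.unusedSectionVars false

namespace Cfsg.Agent.Lib.G2Deg48

open Cfsg.Lie Cfsg.Agent.Lib.ChevStructure Module
open scoped MatrixGroups

variable {F : Type*} [Field F]

variable (F) in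
/-- SL₃ on the long roots, inside the group. -/
noncomputable def sl3 : SL(3, F) →* Gr F :=
  MonoidHom.codRestrict (G2Torus.rho (R := F)) _ fun g => G2Torus.rho_mem g

theorem sl3_injective : Function.Injective (sl3 F) := fun _ _ h =>
  G2Torus.rho_injective (congrArg Subtype.val h)

theorem hh_commute_sl3 {ω : Fˣ} (hω : ω ^ 3 = 1) (g : SL(3, F)) : Commute (hh F ω) (sl3 F g) := by
  have hd : hh F ω = sl3 F (G2Torus.dSL (G2Gauss.cv ω 1)) := by
    apply Subtype.ext
    show G2Gauss.C.HT F (G2Gauss.cv ω 1) = G2Torus.rho (G2Torus.dSL (G2Gauss.cv ω 1))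
    exact (G2Torus.rho_dSL _).symm
  rw [hd]
  suffices hc : Commute (G2Torus.dSL (G2Gauss.cv ω 1)) g from hc.map (sl3 F)
  refine Subtype.ext ?_
  have hval : (G2Torus.dSL (G2Gauss.cv ω 1)).1 = (((ω⁻¹ : Fˣ) : F)) • (1 : Matrix (Fin 3) (Fin 3) F) := by
    rw [G2Torus.val_dSL, Matrix.smul_one_eq_diagonal]
    congr 1
    funext i
    fin_cases i
    · simp [G2Torus.dval, G2Gauss.cv]
    · simp only [G2Torus.dval, G2Gauss.cv, Fin.mk_one, Matrix.cons_val_one, Matrix.cons_val_zero,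
        reduceIte, Nat.one_ne_zero, div_one]
      refine congrArg Units.val ?_
      exact eq_inv_of_mul_eq_one_left (by rw [← pow_succ ω 2, hω])
    · simp [G2Torus.dval, G2Gauss.cv]
  rw [Matrix.SpecialLinearGroup.coe_mul, Matrix.SpecialLinearGroup.coe_mul, hval, smul_mul_assoc,
    one_mul, mul_smul_comm, mul_one]

variable [Fintype F]

/-- The class of the element of order three. -/
theorem index_dvd {ω : Fˣ} (hω : ω ^ 3 = 1) :
    (Subgroup.centralizer ({hh F ω} : Set (Gr F))).index ∣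
      Fintype.card F ^ 3 * (Fintype.card F ^ 3 + 1) := by
  classical
  have : Finite (Gr F) := inferInstance
  set C := Subgroup.centralizer ({hh F ω} : Set (Gr F))
  have hle : (sl3 F).range ≤ C := by
    rintro _ ⟨g, rfl⟩
    rw [Subgroup.mem_centralizer_singleton_iff]
    exact (hh_commute_sl3 hω g).symm.eq
  have hdvd : Nat.card (SL(3, F)) ∣ Nat.card C := by
    rw [Nat.card_congr (MonoidHom.ofInjective (sl3_injective (F := F))).toEquiv]
    exact Subgroup.card_dvd_of_le hle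
  obtain ⟨c, hc⟩ := hdvd
  have h := C.card_mul_index
  rw [hc, card_SL3, card_Gr, mul_assoc] at h
  have hq : 2 ≤ Fintype.card F := Fintype.one_lt_card
  refine ⟨c, Nat.eq_of_mul_eq_mul_left (Nat.mul_pos (pow_pos (show 0 < Fintype.card F by omega) 3)
    (Nat.mul_pos (Nat.sub_pos_of_lt (Nat.one_lt_pow two_ne_zero hq))
      (Nat.sub_pos_of_lt (Nat.one_lt_pow three_ne_zero hq)))) ?_⟩
  rw [mul_comm C.index c, h]
  have e6 : Fintype.card F ^ 6 - 1 = (Fintype.card F ^ 3 - 1) * (Fintype.card F ^ 3 + 1) := by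
    rw [mul_comm, ← Nat.sq_sub_sq, one_pow, ← pow_mul]
  rw [e6]
  ring

variable {M : Type*} [AddCommGroup M] [Module ℂ M] [FiniteDimensional ℂ M]

/-- The degree `q³ - 1` does not occur with the computed character value. -/
theorem not_deg_sub (ρ : Representation ℂ (Gr F) M) [ρ.IsIrreducible] (hF : 5 ≤ Fintype.card F)
    {ω : Fˣ} (hω : ω ^ 3 = 1) (hk : finrank ℂ M = Fintype.card F ^ 3 - 1)
    (hχ : ρ.character (hh F ω) = ((Fintype.card F : ℂ) - 1) * (Fintype.card F + 2)) : False := by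
  have hint := Induced.Integral.isIntegral_centralCharacter ρ (hh F ω)
  obtain ⟨j, hj⟩ := index_dvd (F := F) hω
  have h2 : IsIntegral ℤ ((((Fintype.card F ^ 3 * (Fintype.card F ^ 3 + 1) : ℕ) : ℂ)) *
      ρ.character (hh F ω) / (finrank ℂ M : ℂ)) := by
    rw [hj, mul_comm _ j, Nat.cast_mul, mul_assoc, mul_div_assoc]
    exact ((isIntegral_algebraMap (R := ℤ) (x := (j : ℤ))).mul hint :)
  set N := Fintype.card F ^ 3 * (Fintype.card F ^ 3 + 1) * ((Fintype.card F - 1) * (Fintype.card F + 2))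
    with hN
  have h3 : IsIntegral ℤ ((N : ℚ) / (finrank ℂ M : ℚ)) := by
    refine (isIntegral_algHom_iff ((algebraMap ℚ ℂ).toIntAlgHom) (algebraMap ℚ ℂ).injective).mp ?_
    rw [hχ] at h2
    rw [hN]
    push_cast [Nat.cast_sub (show 1 ≤ Fintype.card F by omega)] at h2 ⊢
    simpa using h2
  obtain ⟨z, hz⟩ := IsIntegrallyClosed.isIntegral_iff.mp h3
  have hpos : 0 < Fintype.card F ^ 3 - 1 :=
    Nat.sub_pos_of_lt (Nat.one_lt_pow three_ne_zero (by omega))
  have hdvd : ((Fintype.card F ^ 3 - 1 : ℕ) : ℤ) ∣ (N : ℤ) := by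
    refine ⟨z, ?_⟩
    rw [hk, eq_div_iff (by exact_mod_cast hpos.ne'), mul_comm] at hz
    have : ((N : ℤ) : ℚ) = ((((Fintype.card F ^ 3 - 1 : ℕ) : ℤ) * z : ℤ) : ℚ) := by
      push_cast
      simpa using hz.symm
    exact_mod_cast this
  have hdvd' : Fintype.card F ^ 3 - 1 ∣ N := Int.natCast_dvd_natCast.1 hdvd
  obtain ⟨j, hq⟩ : ∃ j, Fintype.card F = j + 5 := ⟨_, (Nat.sub_add_cancel hF).symm⟩
  rw [hN, hq] at hdvd'
  simp only [show j + 5 - 1 = j + 4 from rfl] at hdvd'
  set m := (j + 5) ^ 2 + (j + 5) + 1 with hm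
  have hfac : (j + 5) ^ 3 - 1 = (j + 4) * m := by
    have : (j + 5) ^ 3 = (j + 4) * m + 1 := by rw [hm]; ring
    omega
  have e : (j + 5) ^ 3 * ((j + 5) ^ 3 + 1) * ((j + 4) * (j + 5 + 2)) =
      (j + 4) * (m * ((j + 4) * ((j + 4) * m + 3) * (j + 7)) + 2 * (j + 7)) := by
    rw [hm]; ring
  rw [hfac, e] at hdvd'
  have h7 := (Nat.dvd_add_right (dvd_mul_right m _)).1 (Nat.dvd_of_mul_dvd_mul_left (by omega) hdvd')
  have h8 := Nat.le_of_dvd (by omega) h7
  rw [hm] at h8
  nlinarith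

end Cfsg.Agent.Lib.G2Deg48
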