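import Cfsg.Agent.Lib.G2Deg48.Eigen

/-!
Traces through the eigen projections of an abelian subgroup, and scalars on invariant subspaces.
-/

set_option autoImplicit false
set_option linter.unusedSectionVars false

namespace Cfsg.Agent.Lib.G2Deg48

open Module Cfsg.Agent.Lib.UniDeg48 Cfsg.Agent.Lib.MinDegree

section General

variable {G : Type*} [Group G] {M : Type*} [AddCommGroup M] [Module ℂ M]
variable {ρ : Representation ℂ G M} {A : Type*} [AddCommGroup A] [Fintype A] {τ : Multiplicative A →* G}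

theorem eigenProj_of_mem (χ : AddChar A ℂ) {z : M} (hz : z ∈ eigSub ρ τ χ) : eigenProj ρ τ χ z = z := by
  rw [mem_eigSub] at hz
  rw [eigenProj_apply]
  simp only [hz, smul_smul, ← AddChar.map_add_eq_mul, neg_add_cancel, AddChar.map_zero_eq_one,
    one_smul, Finset.sum_const, Finset.card_univ]
  rw [← Nat.cast_smul_eq_nsmul ℂ, smul_smul,
    inv_mul_cancel₀ (Nat.cast_ne_zero.2 Fintype.card_ne_zero), one_smul]

theorem eigenProj_of_ne {χ χ' : AddChar A ℂ} (hne : χ' ≠ χ) {z : M} (hz : z ∈ eigSub ρ τ χ') :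
    eigenProj ρ τ χ z = 0 := by
  classical
  rw [mem_eigSub] at hz
  rw [eigenProj_apply]
  simp only [hz, smul_smul, ← Finset.sum_smul]
  have h : ∑ a : A, χ (-a) * χ' a = ∑ a : A, (χ' - χ) a := Finset.sum_congr rfl fun a _ => by
    rw [AddChar.sub_apply, mul_comm, AddChar.map_neg_eq_inv]
  rw [h, AddChar.sum_eq_ite, if_neg (fun e => hne (sub_eq_zero.1 e)), mul_zero, zero_smul]

theorem eigenProj_mem_eigSub (χ : AddChar A ℂ) (z : M) : eigenProj ρ τ χ z ∈ eigSub ρ τ χ :=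
  (mem_eigSub ρ τ).2 fun a => eigenProj_mem ρ τ χ z a

theorem eigenProj_mem_of_invariant {R : Submodule ℂ M} (hR : ∀ a, ∀ z ∈ R, ρ (τ a) z ∈ R)
    (χ : AddChar A ℂ) {z : M} (hz : z ∈ R) : eigenProj ρ τ χ z ∈ R := by
  rw [eigenProj_apply]
  exact R.smul_mem _ (R.sum_mem fun a _ => R.smul_mem _ (hR _ z hz))

variable [FiniteDimensional ℂ M]

theorem trace_scalar {g : G} (χ : AddChar A ℂ) {e : ℂ} (h : ∀ z ∈ eigSub ρ τ χ, ρ g z = e • z) :
    LinearMap.trace ℂ M (ρ g ∘ₗ eigenProj ρ τ χ) = e * finrank ℂ (eigSub ρ τ χ) := by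
  have he : ρ g ∘ₗ eigenProj ρ τ χ = e • eigenProj ρ τ χ :=
    LinearMap.ext fun z => h _ (eigenProj_mem_eigSub χ z)
  have hp : LinearMap.IsProj (eigSub ρ τ χ) (eigenProj ρ τ χ) :=
    ⟨eigenProj_mem_eigSub χ, fun z hz => eigenProj_of_mem χ hz⟩
  rw [he, map_smul, hp.trace, smul_eq_mul]

theorem trace_moved {g : G} {χ χ' : AddChar A ℂ} (hne : χ' ≠ χ)
    (h : ∀ z ∈ eigSub ρ τ χ, ρ g z ∈ eigSub ρ τ χ') :
    LinearMap.trace ℂ M (ρ g ∘ₗ eigenProj ρ τ χ) = 0 := by
  refine (LinearMap.isNilpotent_trace_of_isNilpotent ⟨2, LinearMap.ext fun z => ?_⟩).eq_zero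
  rw [pow_two, Module.End.mul_apply, LinearMap.comp_apply, LinearMap.comp_apply,
    eigenProj_of_ne hne (h _ (eigenProj_mem_eigSub χ z)), map_zero, LinearMap.zero_apply]

/-- The character at `g · τ a` through the eigen projections. -/
theorem char_mul (g : G) (a : A) :
    ρ.character (g * τ (Multiplicative.ofAdd a)) =
      ∑ χ : AddChar A ℂ, χ a * LinearMap.trace ℂ M (ρ g ∘ₗ eigenProj ρ τ χ) := by
  have h : ρ (g * τ (Multiplicative.ofAdd a)) = ∑ χ : AddChar A ℂ, χ a • (ρ g ∘ₗ eigenProj ρ τ χ) := by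
    refine LinearMap.ext fun z => ?_
    rw [map_mul, Module.End.mul_apply, LinearMap.sum_apply]
    conv_lhs => rw [← sum_eigenProj ρ τ z, map_sum, map_sum]
    exact Finset.sum_congr rfl fun χ _ => by
      rw [eigenProj_mem, map_smul, LinearMap.smul_apply, LinearMap.comp_apply]
  rw [Representation.character, h, map_sum]
  simp only [map_smul, smul_eq_mul]

end General

variable {F : Type*} [Field F] [Fintype F]
variable {M : Type*} [AddCommGroup M] [Module ℂ M] [FiniteDimensional ℂ M]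
variable {ρ : Representation ℂ (Gr F) M} {ν : AddChar F ℂ}

/-- An element acting by a scalar on the pieces of an invariant subspace acts by it on the subspace. -/
theorem scalar_of_split (hν : ν ≠ 1) (n : Fin 12) {R : Submodule ℂ M}
    (hR : ∀ s, ∀ z ∈ R, ρ (xe n s) z ∈ R) {g : Gr F} {e : ℂ}
    (h : ∀ a, ∀ z ∈ (R ⊓ Eg ρ ν n a : Submodule ℂ M), ρ g z = e • z) {z : M} (hz : z ∈ R) :
    ρ g z = e • z := by
  classical
  rw [← sum_eigenProj ρ (x n) z, map_sum, Finset.smul_sum]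
  refine Finset.sum_congr rfl fun χ _ => ?_
  obtain ⟨a, rfl⟩ := (mulShift_bij hν).2 χ
  exact h a _ ⟨eigenProj_mem_of_invariant (fun s w hw => hR s.toAdd w hw) _ hz,
    eigenProj_mem_eigSub _ z⟩

/-- A subspace whose non-trivial pieces vanish is a piece. -/
theorem le_Eg_zero (hν : ν ≠ 1) (n : Fin 12) {R : Submodule ℂ M}
    (hR : ∀ s, ∀ z ∈ R, ρ (xe n s) z ∈ R)
    (h : ∀ a, a ≠ 0 → ∀ z ∈ (R ⊓ Eg ρ ν n a : Submodule ℂ M), z = 0) {z : M} (hz : z ∈ R) :
    z ∈ Eg ρ ν n 0 := by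
  classical
  rw [← sum_eigenProj ρ (x n) z]
  refine Submodule.sum_mem _ fun χ _ => ?_
  obtain ⟨a, rfl⟩ := (mulShift_bij hν).2 χ
  by_cases ha : a = 0
  · subst ha
    exact eigenProj_mem_eigSub _ z
  · rw [h a ha _ ⟨eigenProj_mem_of_invariant (fun s w hw => hR s.toAdd w hw) _ hz,
      eigenProj_mem_eigSub _ z⟩]
    exact Submodule.zero_mem _

end Cfsg.Agent.Lib.G2Deg48
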