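import Cfsg.Agent.Lib.G2Deg48.Elements
import Cfsg.Agent.Lib.ExcDeg48.D4Abstract
import Mathlib.NumberTheory.LegendreSymbol.AddCharacter
import Cfsg.Agent.S1055

/-!
Eigenspaces of the root groups of G₂(q) in a complex representation.
-/

set_option autoImplicit false
set_option linter.unusedSectionVars false

namespace Cfsg.Agent.Lib.G2Deg48

open Module Cfsg.Agent.Lib.UniDeg48 Cfsg.Agent.Lib.ExcDeg48

variable {F : Type*} [Field F] [Fintype F]
variable {M : Type*} [AddCommGroup M] [Module ℂ M]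
variable (ρ : Representation ℂ (Gr F) M) (ν : AddChar F ℂ)

/-- The eigenspace of a root group for the character `t ↦ ν (a t)`. -/
noncomputable def Eg (n : Fin 12) (a : F) : Submodule ℂ M := eigSub ρ (x n) (ν.mulShift a)

variable {ρ ν}

theorem mem_Eg {n : Fin 12} {a : F} {z : M} :
    z ∈ Eg ρ ν n a ↔ ∀ s, ρ (xe n s) z = ν (a * s) • z := by
  rw [Eg, mem_eigSub]; rfl

theorem mem_Eg_zero {n : Fin 12} {z : M} : z ∈ Eg ρ ν n 0 ↔ ∀ s, ρ (xe n s) z = z := by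
  simp [mem_Eg]

theorem xe_Eg {n : Fin 12} {a : F} {z : M} (h : z ∈ Eg ρ ν n a) (s : F) :
    ρ (xe n s) z = ν (a * s) • z := mem_Eg.1 h s

theorem xe_Eg_zero {n : Fin 12} {z : M} (h : z ∈ Eg ρ ν n 0) (s : F) : ρ (xe n s) z = z :=
  mem_Eg_zero.1 h s

/-- An element conjugating one root group into another moves the eigenspaces. -/
theorem Cj.map {g : Gr F} {n m : Fin 12} (h : Cj g n m) :
    ∃ e : F, e ≠ 0 ∧ ∀ a, ∀ z ∈ Eg ρ ν n a, ρ g z ∈ Eg ρ ν m (e * a) := by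
  obtain ⟨e, he, h⟩ := h
  refine ⟨e⁻¹, inv_ne_zero he, fun a z hz => mem_Eg.2 fun s => ?_⟩
  have : xe m s * g = g * xe n (e⁻¹ * s) := by
    rw [h, ← mul_assoc e, mul_inv_cancel₀ he, one_mul]
  rw [← Module.End.mul_apply, ← map_mul, this, map_mul, Module.End.mul_apply, xe_Eg hz, map_smul,
    mul_assoc e⁻¹, mul_left_comm e⁻¹]

/-- Both directions. -/
theorem Cj.map2 {g : Gr F} {n m : Fin 12} (h : Cj g n m) :
    ∃ e : F, e ≠ 0 ∧ ∀ a, (∀ z ∈ Eg ρ ν n a, ρ g z ∈ Eg ρ ν m (e * a)) ∧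
      ∀ z ∈ Eg ρ ν m (e * a), ρ g⁻¹ z ∈ Eg ρ ν n a := by
  obtain ⟨e, he, h⟩ := h
  refine ⟨e⁻¹, inv_ne_zero he, fun a => ⟨fun z hz => mem_Eg.2 fun s => ?_, fun z hz => mem_Eg.2 fun s => ?_⟩⟩
  · have : xe m s * g = g * xe n (e⁻¹ * s) := by
      rw [h, ← mul_assoc e, mul_inv_cancel₀ he, one_mul]
    rw [← Module.End.mul_apply, ← map_mul, this, map_mul, Module.End.mul_apply, xe_Eg hz, map_smul,
      mul_assoc e⁻¹, mul_left_comm e⁻¹]
  · have : xe n s * g⁻¹ = g⁻¹ * xe m (e * s) := by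
      rw [eq_inv_mul_iff_mul_eq, ← mul_assoc, h, mul_inv_cancel_right]
    rw [← Module.End.mul_apply, ← map_mul, this, map_mul, Module.End.mul_apply, xe_Eg hz, map_smul,
      mul_mul_mul_comm, inv_mul_cancel₀ he, one_mul]

theorem Cj.map_zero {g : Gr F} {n m : Fin 12} (h : Cj g n m) {z : M} (hz : z ∈ Eg ρ ν n 0) :
    ρ g z ∈ Eg ρ ν m 0 := by
  obtain ⟨e, -, he⟩ := h.map (ρ := ρ) (ν := ν)
  simpa using he 0 z hz

theorem Cj.map_ne {g : Gr F} {n m : Fin 12} (h : Cj g n m) {a : F} (ha : a ≠ 0) {z : M}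
    (hz : z ∈ Eg ρ ν n a) : ∃ b, b ≠ 0 ∧ ρ g z ∈ Eg ρ ν m b := by
  obtain ⟨e, he0, he⟩ := h.map (ρ := ρ) (ν := ν)
  exact ⟨e * a, mul_ne_zero he0 ha, he a z hz⟩

theorem map_tt (a b : Fˣ) {n : Fin 12} {c : F} {z : M} (h : z ∈ Eg ρ ν n c) :
    ρ (tt a b) z ∈ Eg ρ ν n (((ch n a b)⁻¹ : Fˣ) * c) := by
  refine mem_Eg.2 fun s => ?_
  have e : xe n s * tt a b = tt a b * xe n (((ch n a b)⁻¹ : Fˣ) * s : F) := by
    rw [tt_xe, ← mul_assoc ((ch n a b : F)), Units.mul_inv, one_mul]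
  rw [← Module.End.mul_apply, ← map_mul, e, map_mul, Module.End.mul_apply, xe_Eg h, map_smul,
    mul_assoc ((((ch n a b)⁻¹ : Fˣ)) : F), mul_left_comm c]

/-- A root element commuting with the root group n preserves its eigenspaces. -/
theorem map_comm {r n : Fin 12} (h : n ≠ r ∧ n ≠ r.rev ∧ Cfsg.Lie.chevG2.commTerms r.val n.val = [])
    (u : F) {a : F} {z : M} (hz : z ∈ Eg ρ ν n a) : ρ (xe r u) z ∈ Eg ρ ν n a :=
  map_eigSub ρ (x n) _ (fun s => comm_xe r n h u s) hz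

theorem map_self (r : Fin 12) (u : F) {a : F} {z : M} (hz : z ∈ Eg ρ ν r a) :
    ρ (xe r u) z ∈ Eg ρ ν r a :=
  map_eigSub ρ (x r) _ (fun s => by
    show xe r u * xe r s = xe r s * xe r u
    rw [xe_add, xe_add, add_comm]) hz

section Dim

variable [FiniteDimensional ℂ M]

/-- Two subspaces exchanged by an element and its inverse have the same dimension. -/
theorem dim_eq {P Q : Submodule ℂ M} (g : Gr F) (h : ∀ z ∈ P, ρ g z ∈ Q)
    (h' : ∀ z ∈ Q, ρ g⁻¹ z ∈ P) : finrank ℂ P = finrank ℂ Q :=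
  le_antisymm (rep_le ρ g h) (rep_le ρ g⁻¹ h')

theorem inj_nontriv {P : Submodule ℂ M} (h : 0 < finrank ℂ P) : ∃ z ∈ P, z ≠ 0 := by
  refine P.exists_mem_ne_zero_of_ne_bot fun e => ?_
  rw [e, finrank_bot] at h
  exact lt_irrefl 0 h

theorem pos_of_mem {P : Submodule ℂ M} {z : M} (h : z ∈ P) (h0 : z ≠ 0) : 1 ≤ finrank ℂ P :=
  Submodule.one_le_finrank_iff.2 fun e => h0 ((Submodule.mem_bot ℂ).1 (e ▸ h))

/-- A vector of a line spans it. -/
theorem eq_smul_of_line {P : Submodule ℂ M} (h : finrank ℂ P ≤ 1) {w : M} (hw : w ∈ P) (w0 : w ≠ 0)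
    {z : M} (hz : z ∈ P) : ∃ c : ℂ, z = c • w := by
  have h1 : finrank ℂ P = 1 := le_antisymm h (pos_of_mem hw w0)
  obtain ⟨c, hc⟩ := (finrank_eq_one_iff_of_nonzero' (⟨w, hw⟩ : P) (fun e => w0 (congrArg Subtype.val e))).1 h1 ⟨z, hz⟩
  exact ⟨c, (congrArg Subtype.val hc).symm⟩

variable (hν : ν ≠ 1)
include hν

theorem nu_mul {a : F} (h : ∀ s, ν (a * s) = 1) : a = 0 := by
  by_contra ha
  exact AddChar.IsPrimitive.of_ne_one hν ha (DFunLike.ext _ _ h)

theorem mulShift_bij : Function.Bijective fun a : F => ν.mulShift a := by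
  classical
  rw [Fintype.bijective_iff_injective_and_card, AddChar.card_eq]
  exact ⟨AddChar.to_mulShift_inj_of_isPrimitive (AddChar.IsPrimitive.of_ne_one hν), rfl⟩

/-- An invariant subspace is the sum of its intersections with the eigenspaces. -/
theorem sum_split (n : Fin 12) (R : Submodule ℂ M) (hR : ∀ s, ∀ z ∈ R, ρ (xe n s) z ∈ R) :
    finrank ℂ R = ∑ a : F, finrank ℂ (R ⊓ Eg ρ ν n a : Submodule ℂ M) := by
  classical
  rw [← OrthDeg48.sum_inf_eig ρ (x n) R (fun s z hz => hR s.toAdd z hz)]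
  exact (Fintype.sum_bijective (fun a : F => ν.mulShift a) (mulShift_bij hν) _ _ fun a => rfl).symm

/-- The parameter of an eigenvector is unique. -/
theorem param_unique {n : Fin 12} {a b : F} {z : M} (ha : z ∈ Eg ρ ν n a) (hb : z ∈ Eg ρ ν n b)
    (h0 : z ≠ 0) : a = b := by
  refine (mulShift_bij hν).1 (DFunLike.ext _ _ fun s => smul_left_injective ℂ h0 ?_)
  exact (xe_Eg ha s).symm.trans (xe_Eg hb s)

/-- An eigenvector in an invariant subspace of positive dimension. -/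
theorem exists_eig (n : Fin 12) (R : Submodule ℂ M) (hR : ∀ s, ∀ z ∈ R, ρ (xe n s) z ∈ R)
    (h : 0 < finrank ℂ R) : ∃ a, ∃ z ∈ R, z ∈ Eg ρ ν n a ∧ z ≠ 0 := by
  rw [sum_split hν n R hR] at h
  obtain ⟨a, -, ha⟩ := Finset.exists_ne_zero_of_sum_ne_zero h.ne'
  obtain ⟨z, hz, z0⟩ := inj_nontriv (Nat.pos_of_ne_zero ha)
  exact ⟨a, z, hz.1, hz.2, z0⟩

omit hν

/-- A root group acts trivially as soon as all its non-trivial eigenspaces vanish. -/
theorem xe_trivial (hν : ν ≠ 1) (n : Fin 12) (h : ∀ a, a ≠ 0 → finrank ℂ (Eg ρ ν n a) = 0) (s : F) :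
    ρ (xe n s) = 1 := by
  classical
  refine LinearMap.ext fun z => ?_
  have h0 : Eg ρ ν n 0 = ⊤ := by
    apply Submodule.eq_top_of_finrank_eq
    have := sum_split (ρ := ρ) hν n ⊤ fun _ _ _ => Submodule.mem_top
    rw [Finset.sum_eq_single (0 : F) (fun a _ ha => by rw [top_inf_eq]; exact h a ha) (by simp),
      finrank_top, top_inf_eq] at this
    exact this.symm
  exact xe_Eg_zero (h0 ▸ Submodule.mem_top : z ∈ Eg ρ ν n 0) s

end Dim

/-- In a representation of degree at least two no root group acts trivially. -/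
theorem root_nontrivial {k : ℕ} (ρ : Representation ℂ (Gr F) (Fin k → ℂ)) (hρ : ρ.IsIrreducible)
    (hk : 2 ≤ k) (hF : 2 < Fintype.card F) (n : Fin 12) : ∃ s : F, ρ (xe n s) ≠ 1 := by
  classical
  obtain ⟨a, ha0, ha1⟩ : ∃ a : F, a ≠ 0 ∧ a ≠ 1 := by
    by_contra h
    push Not at h
    have hs : (Finset.univ : Finset F) ⊆ {0, 1} := fun a _ => by
      by_cases e : a = 0
      · simp [e]
      · simp [h a e]
    have h2 := Finset.card_le_card hs
    rw [Finset.card_univ] at h2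
    exact absurd (h2.trans Finset.card_le_two) (by omega)
  have := (Cfsg.Agent.S1055.result (F := F) ⟨a, ha0, ha1⟩).1
  by_contra h
  push Not at h
  rcases Subgroup.Normal.eq_bot_or_eq_top (inferInstance : ρ.ker.Normal) with hb | ht
  · have h1 : xe n (1 : F) ∈ ρ.ker := h 1
    rw [hb, Subgroup.mem_bot] at h1
    exact one_ne_zero (xe_eq_one h1)
  · have := MinDegree.finrank_le_one_of_trivial hρ fun g => (ht ▸ Subgroup.mem_top g : g ∈ ρ.ker)
    rw [Module.finrank_fin_fun] at this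
    omega

end Cfsg.Agent.Lib.G2Deg48
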