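import Cfsg.Agent.Lib.G2Gauss.Levi

/-!
The root elements, torus and Weyl elements of G₂(q) as elements of the group, with the relations
among the positive root groups and the root group of −a.
-/

set_option autoImplicit false
set_option maxRecDepth 100000
set_option linter.unusedSectionVars false

namespace Cfsg.Agent.Lib.G2Deg48

open Cfsg.Lie Cfsg.Agent.Lib.ChevStructure

/-- The group. -/
abbrev Gr (F : Type*) [Field F] := ↥(chevG2.group F)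

variable {F : Type*} [Field F]

/-- A root element. -/
noncomputable def xe (n : Fin 12) (s : F) : Gr F := ⟨G2Gauss.X n s, G2Gauss.X_mem n s⟩

theorem xe_val (n : Fin 12) (s : F) : (xe n s : GL chevG2.Idx F) = G2Gauss.X n s := rfl

theorem xe_add (n : Fin 12) (s t : F) : xe n s * xe n t = xe n (s + t) := Subtype.ext (G2Gauss.X_add n s t)

theorem xe_zero (n : Fin 12) : xe n (0 : F) = 1 := Subtype.ext (G2Gauss.X_zero n)

theorem xe_inv (n : Fin 12) (t : F) : (xe n t)⁻¹ = xe n (-t) := Subtype.ext (G2Gauss.X_inv n t)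

/-- A root group. -/
noncomputable def x (n : Fin 12) : Multiplicative F →* Gr F :=
  MonoidHom.mk' (fun s => xe n s.toAdd) fun s t => (xe_add n s.toAdd t.toAdd).symm

theorem x_apply (n : Fin 12) (s : F) : x n (Multiplicative.ofAdd s) = xe n s := rfl

theorem xe_eq_one {n : Fin 12} {s : F} (h : xe n s = 1) : s = 0 :=
  G2Gauss.C.X_eq_one (congrArg Subtype.val h)

/-- A torus element. -/
noncomputable def tt (a b : Fˣ) : Gr F := ⟨G2Gauss.T a b, G2Gauss.T_mem a b⟩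

theorem tt_mul (a b a' b' : Fˣ) : tt a b * tt a' b' = tt (a * a') (b * b') :=
  Subtype.ext (G2Gauss.T_mul a b a' b')

theorem tt_one : tt (1 : Fˣ) 1 = 1 := Subtype.ext G2Gauss.T_one

theorem tt_inv (a b : Fˣ) : (tt a b)⁻¹ = tt a⁻¹ b⁻¹ := Subtype.ext (G2Gauss.T_inv a b)

/-- The value of a root at a torus element. -/
noncomputable def ch (n : Fin 12) (a b : Fˣ) : Fˣ := G2Gauss.chi n a b

theorem tt_xe (n : Fin 12) (a b : Fˣ) (s : F) :
    tt a b * xe n s = xe n ((ch n a b : F) * s) * tt a b :=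
  Subtype.ext (G2Gauss.T_X n a b s)

theorem A6 : A chevG2 G2Gauss.i0 (G2Gauss.rt 6) = -3 ∧ A chevG2 G2Gauss.i1 (G2Gauss.rt 6) = 2 := by decide
theorem A7 : A chevG2 G2Gauss.i0 (G2Gauss.rt 7) = 2 ∧ A chevG2 G2Gauss.i1 (G2Gauss.rt 7) = -1 := by decide
theorem A8 : A chevG2 G2Gauss.i0 (G2Gauss.rt 8) = -1 ∧ A chevG2 G2Gauss.i1 (G2Gauss.rt 8) = 1 := by decide
theorem A9 : A chevG2 G2Gauss.i0 (G2Gauss.rt 9) = 1 ∧ A chevG2 G2Gauss.i1 (G2Gauss.rt 9) = 0 := by decide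
theorem A10 : A chevG2 G2Gauss.i0 (G2Gauss.rt 10) = 3 ∧ A chevG2 G2Gauss.i1 (G2Gauss.rt 10) = -1 := by decide
theorem A11 : A chevG2 G2Gauss.i0 (G2Gauss.rt 11) = 0 ∧ A chevG2 G2Gauss.i1 (G2Gauss.rt 11) = 1 := by decide
theorem A4 : A chevG2 G2Gauss.i0 (G2Gauss.rt 4) = -2 ∧ A chevG2 G2Gauss.i1 (G2Gauss.rt 4) = 1 := by decide

theorem ch6 (a b : Fˣ) : ch 6 a b = a⁻¹ ^ 3 * b ^ 2 := by
  rw [ch, G2Gauss.chi, A6.1, A6.2, inv_pow, ← zpow_natCast, ← zpow_natCast, ← zpow_neg]; rfl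

theorem ch7 (a b : Fˣ) : ch 7 a b = a ^ 2 * b⁻¹ := by
  rw [ch, G2Gauss.chi, A7.1, A7.2, zpow_neg_one, ← zpow_natCast]; rfl

theorem ch8 (a b : Fˣ) : ch 8 a b = a⁻¹ * b := by
  rw [ch, G2Gauss.chi, A8.1, A8.2, zpow_neg_one, zpow_one]

theorem ch9 (a b : Fˣ) : ch 9 a b = a := by
  rw [ch, G2Gauss.chi, A9.1, A9.2, zpow_one, zpow_zero, mul_one]

theorem ch10 (a b : Fˣ) : ch 10 a b = a ^ 3 * b⁻¹ := by
  rw [ch, G2Gauss.chi, A10.1, A10.2, zpow_neg_one, ← zpow_natCast]; rfl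

theorem ch11 (a b : Fˣ) : ch 11 a b = b := by
  rw [ch, G2Gauss.chi, A11.1, A11.2, zpow_one, zpow_zero, one_mul]

theorem ch4 (a b : Fˣ) : ch 4 a b = a⁻¹ ^ 2 * b := by
  rw [ch, G2Gauss.chi, A4.1, A4.2, zpow_one, inv_pow, ← zpow_natCast, ← zpow_neg]; rfl

/-! ### Relations -/

theorem comm_xe (r s : Fin 12) (h : s ≠ r ∧ s ≠ r.rev ∧ chevG2.commTerms r.val s.val = []) (z u : F) :
    xe r z * xe s u = xe s u * xe r z :=
  Subtype.ext (G2Gauss.comm_X r s h z u)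

theorem rel (r s : Fin 12) (L : List (ℕ × ℤ × ℕ × ℕ))
    (h : s ≠ r ∧ s ≠ r.rev ∧ chevG2.commTerms r.val s.val = L ∧ ∀ c ∈ L, c.1 < 12) (z t : F) :
    xe s t * xe r z = xe r z * (xe s t *
      (L.map fun c => xe (Fin.ofNat 12 c.1) ((c.2.1 : F) * (-z) ^ c.2.2.1 * t ^ c.2.2.2)).prod) := by
  apply Subtype.ext
  rw [Subgroup.coe_mul, Subgroup.coe_mul, Subgroup.coe_mul, SubmonoidClass.coe_list_prod, List.map_map]
  have e : ((fun g : Gr F => (g : GL chevG2.Idx F)) ∘ fun c : ℕ × ℤ × ℕ × ℕ =>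
      xe (Fin.ofNat 12 c.1) ((c.2.1 : F) * (-z) ^ c.2.2.1 * t ^ c.2.2.2)) =
      fun c : ℕ × ℤ × ℕ × ℕ => G2Gauss.X (Fin.ofNat 12 c.1) ((c.2.1 : F) * (-z) ^ c.2.2.1 * t ^ c.2.2.2) := rfl
  rw [show (Subtype.val ∘ fun c : ℕ × ℤ × ℕ × ℕ =>
      xe (Fin.ofNat 12 c.1) ((c.2.1 : F) * (-z) ^ c.2.2.1 * t ^ c.2.2.2)) = _ from e,
    xe_val, xe_val, ← G2Gauss.conj_X r s L h (-z) t, neg_neg, ← mul_assoc, ← mul_assoc,
    G2Gauss.X_add, add_neg_cancel, G2Gauss.X_zero, one_mul]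

theorem rel_6_10 (z t : F) : xe 10 t * xe 6 z = xe 6 z * (xe 10 t * xe 11 (-(z * t))) := by
  rw [rel 6 10 [(11, 1, 1, 1)] (by decide) z t]; simp

theorem rel_10_6 (z t : F) : xe 6 t * xe 10 z = xe 10 z * (xe 6 t * xe 11 (z * t)) := by
  rw [rel 10 6 [(11, -1, 1, 1)] (by decide) z t]; simp

theorem rel_8_9 (z t : F) : xe 9 t * xe 8 z = xe 8 z * (xe 9 t * xe 11 (-(3 * z * t))) := by
  rw [rel 8 9 [(11, 3, 1, 1)] (by decide) z t]; simp

theorem rel_7_9 (z t : F) : xe 9 t * xe 7 z = xe 7 z * (xe 9 t * xe 10 (-(3 * z * t))) := by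
  rw [rel 7 9 [(10, 3, 1, 1)] (by decide) z t]; simp

theorem rel_7_8 (z t : F) : xe 8 t * xe 7 z = xe 7 z * (xe 8 t *
    (xe 9 (2 * z * t) * (xe 10 (-(3 * z ^ 2 * t)) * xe 11 (-(3 * z * t ^ 2))))) := by
  rw [rel 7 8 [(9, -2, 1, 1), (10, -3, 2, 1), (11, 3, 1, 2)] (by decide) z t]
  simp only [List.map_cons, List.map_nil, List.prod_cons, List.prod_nil, mul_one]
  congr 4 <;> push_cast <;> ring

theorem rel_7_6 (z t : F) : xe 6 t * xe 7 z = xe 7 z * (xe 6 t *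
    (xe 8 (z * t) * (xe 9 (z ^ 2 * t) * (xe 10 (-(z ^ 3 * t)) * xe 11 (-(z ^ 3 * t ^ 2)))))) := by
  rw [rel 7 6 [(8, -1, 1, 1), (9, 1, 2, 1), (10, 1, 3, 1), (11, 1, 3, 2)] (by decide) z t]
  simp only [List.map_cons, List.map_nil, List.prod_cons, List.prod_nil, mul_one]
  congr 5 <;> push_cast <;> ring

theorem rel_4_9 (z t : F) : xe 9 t * xe 4 z = xe 4 z * (xe 9 t *
    (xe 8 (2 * z * t) * (xe 6 (3 * z ^ 2 * t) * xe 11 (3 * z * t ^ 2)))) := by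
  rw [rel 4 9 [(8, -2, 1, 1), (6, 3, 2, 1), (11, -3, 1, 2)] (by decide) z t]
  simp only [List.map_cons, List.map_nil, List.prod_cons, List.prod_nil, mul_one]
  congr 4 <;> push_cast <;> ring

theorem rel_4_10 (z t : F) : xe 10 t * xe 4 z = xe 4 z * (xe 10 t *
    (xe 9 (-(z * t)) * (xe 8 (-(z ^ 2 * t)) * (xe 6 (-(z ^ 3 * t)) * xe 11 (z ^ 3 * t ^ 2))))) := by
  rw [rel 4 10 [(9, 1, 1, 1), (8, -1, 2, 1), (6, 1, 3, 1), (11, -1, 3, 2)] (by decide) z t]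
  simp only [List.map_cons, List.map_nil, List.prod_cons, List.prod_nil, mul_one]
  congr 5 <;> push_cast <;> ring

theorem rel_4_8 (z t : F) : xe 8 t * xe 4 z = xe 4 z * (xe 8 t * xe 6 (3 * z * t)) := by
  rw [rel 4 8 [(6, -3, 1, 1)] (by decide) z t]; simp

/-! ### Weyl elements -/

/-- The Weyl element of a. -/
noncomputable def na : Gr F := ⟨G2Gauss.nn 7, G2Gauss.nn_mem 7⟩

/-- The Weyl element of b. -/
noncomputable def nb : Gr F := ⟨G2Gauss.nn 6, G2Gauss.nn_mem 6⟩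

/-- `g` conjugates the root group n to the root group m. -/
def Cj (g : Gr F) (n m : Fin 12) : Prop :=
  ∃ e : F, e ≠ 0 ∧ ∀ s, g * xe n s = xe m (e * s) * g

theorem Cj.inv {g : Gr F} {n m : Fin 12} (h : Cj g n m) : Cj g⁻¹ m n := by
  obtain ⟨e, he, h⟩ := h
  refine ⟨e⁻¹, inv_ne_zero he, fun s => ?_⟩
  calc g⁻¹ * xe m s = g⁻¹ * (xe m (e * (e⁻¹ * s)) * g) * g⁻¹ := by
        rw [← mul_assoc e, mul_inv_cancel₀ he, one_mul]; group
    _ = g⁻¹ * (g * xe n (e⁻¹ * s)) * g⁻¹ := by rw [h]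
    _ = _ := by group

theorem cj_na (n m : Fin 12) (h : chevG2.reflectRoot 0 n.val = m.val) : Cj (na : Gr F) n m := by
  obtain ⟨e, he, h⟩ := G2Gauss.exists_nA_X (F := F) n m h
  exact ⟨e, he, fun s => Subtype.ext (h s)⟩

theorem cj_nb (n m : Fin 12) (h : chevG2.reflectRoot 1 n.val = m.val) : Cj (nb : Gr F) n m := by
  obtain ⟨e, he, h⟩ := G2Gauss.exists_nB_X (F := F) n m h
  exact ⟨e, he, fun s => Subtype.ext (h s)⟩

theorem cj_tt (a b : Fˣ) (n : Fin 12) : Cj (tt a b) n n :=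
  ⟨(ch n a b : F), (ch n a b).ne_zero, fun s => tt_xe n a b s⟩

end Cfsg.Agent.Lib.G2Deg48
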