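import Cfsg.Agent.Lib.G2Deg48.Three

/-!
The eigenspaces of the root groups 8, 9, 10, 11 in characteristic three.
-/

set_option autoImplicit false
set_option linter.unusedSectionVars false

namespace Cfsg.Agent.Lib.G2Deg48

open Module

variable {F : Type*} [Field F] [Fintype F]
variable {M : Type*} [AddCommGroup M] [Module ℂ M]
variable {ρ : Representation ℂ (Gr F) M} {ν : AddChar F ℂ}

theorem two_eq (h3 : (3 : F) = 0) : (2 : F) = -1 := by linear_combination h3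

theorem comm_8_9 (h3 : (3 : F) = 0) (s t : F) : Commute (xe 8 s) (xe 9 t) := by
  show xe 8 s * xe 9 t = xe 9 t * xe 8 s
  rw [rel_8_9, h3, zero_mul, zero_mul, neg_zero, xe_zero, mul_one]

theorem comm_7_9 (h3 : (3 : F) = 0) (s t : F) : Commute (xe 7 s) (xe 9 t) := by
  show xe 7 s * xe 9 t = xe 9 t * xe 7 s
  rw [rel_7_9, h3, zero_mul, zero_mul, neg_zero, xe_zero, mul_one]

theorem comm_4_8 (h3 : (3 : F) = 0) (s t : F) : Commute (xe 4 s) (xe 8 t) := by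
  show xe 4 s * xe 8 t = xe 8 t * xe 4 s
  rw [rel_4_8, h3, zero_mul, zero_mul, xe_zero, mul_one]

theorem map_commute {r n : Fin 12} {u : F} (h : ∀ s, Commute (xe r u) (xe n s)) {a : F} {z : M}
    (hz : z ∈ Eg ρ ν n a) : ρ (xe r u) z ∈ Eg ρ ν n a :=
  UniDeg48.map_eigSub ρ (x n) _ (fun s => h s) hz

theorem x7_E8 (h3 : (3 : F) = 0) {a s : F} {z : M} (ha : z ∈ Eg ρ ν 8 a) (hs : z ∈ Eg ρ ν 9 s) (u : F) :
    ρ (xe 7 u) z ∈ Eg ρ ν 8 (a + 2 * u * s) := by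
  refine mem_Eg.2 fun t => ?_
  rw [← Module.End.mul_apply, ← map_mul, rel_7_8, h3]
  simp only [zero_mul, neg_zero, xe_zero, mul_one, map_mul, Module.End.mul_apply]
  rw [xe_Eg hs, map_smul, xe_Eg ha, smul_smul, ← AddChar.map_add_eq_mul, map_smul]
  congr 2
  ring

theorem x4_E9 (h3 : (3 : F) = 0) {a s : F} {z : M} (ha : z ∈ Eg ρ ν 8 a) (hs : z ∈ Eg ρ ν 9 s) (u : F) :
    ρ (xe 4 u) z ∈ Eg ρ ν 9 (s + 2 * u * a) := by
  refine mem_Eg.2 fun t => ?_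
  rw [← Module.End.mul_apply, ← map_mul, rel_4_9, h3]
  simp only [zero_mul, xe_zero, mul_one, map_mul, Module.End.mul_apply]
  rw [xe_Eg ha, map_smul, xe_Eg hs, smul_smul, ← AddChar.map_add_eq_mul, map_smul]
  congr 2
  ring

variable (ρ ν) in
/-- A common eigenspace of 8, 9, 10, 11. -/
noncomputable def P4 (a s b v : F) : Submodule ℂ M :=
  Eg ρ ν 8 a ⊓ Eg ρ ν 9 s ⊓ Eg ρ ν 10 b ⊓ Eg ρ ν 11 v

theorem mem_P4 {a s b v : F} {z : M} : z ∈ P4 ρ ν a s b v ↔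
    z ∈ Eg ρ ν 8 a ∧ z ∈ Eg ρ ν 9 s ∧ z ∈ Eg ρ ν 10 b ∧ z ∈ Eg ρ ν 11 v := by
  simp only [P4, Submodule.mem_inf, and_assoc]

theorem map7_P4 (h3 : (3 : F) = 0) {a s b v : F} {z : M} (h : z ∈ P4 ρ ν a s b v) (u : F) :
    ρ (xe 7 u) z ∈ P4 ρ ν (a + 2 * u * s) s b v := by
  obtain ⟨h8, h9, h10, h11⟩ := mem_P4.1 h
  exact mem_P4.2 ⟨x7_E8 h3 h8 h9 u, map_commute (comm_7_9 h3 u) h9, map_comm (by decide) u h10,
    map_comm (by decide) u h11⟩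

theorem map6_P4 {a s b v : F} {z : M} (h : z ∈ P4 ρ ν a s b v) (u : F) :
    ρ (xe 6 u) z ∈ P4 ρ ν a s (b - u * v) v := by
  obtain ⟨h8, h9, h10, h11⟩ := mem_P4.1 h
  exact mem_P4.2 ⟨map_comm (by decide) u h8, map_comm (by decide) u h9, x6_E10 h11 h10 u,
    map_comm (by decide) u h11⟩

theorem mapT_P4 {a s b v : F} {z : M} (h : z ∈ P4 ρ ν a s b v) (x y : Fˣ) :
    ρ (tt x y) z ∈ P4 ρ ν (((x⁻¹ * y)⁻¹ : Fˣ) * a) (((x⁻¹ : Fˣ) : F) * s)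
      (((x ^ 3 * y⁻¹)⁻¹ : Fˣ) * b) (((y⁻¹ : Fˣ) : F) * v) := by
  obtain ⟨h8, h9, h10, h11⟩ := mem_P4.1 h
  refine mem_P4.2 ⟨?_, ?_, ?_, ?_⟩
  · simpa [ch8] using map_tt x y h8
  · simpa [ch9] using map_tt x y h9
  · simpa [ch10] using map_tt x y h10
  · simpa [ch11] using map_tt x y h11

variable [FiniteDimensional ℂ M]

variable (ρ ν) in
/-- The dimension of a common eigenspace. -/
noncomputable def n4 (a s b v : F) : ℕ := finrank ℂ (P4 ρ ν a s b v)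

theorem n4_x7 (h3 : (3 : F) = 0) (a s b v u : F) :
    n4 ρ ν a s b v = n4 ρ ν (a + 2 * u * s) s b v := by
  refine dim_eq (xe 7 u) (fun z hz => map7_P4 h3 hz u) fun z hz => ?_
  rw [xe_inv]
  have := map7_P4 h3 hz (-u)
  rwa [show a + 2 * u * s + 2 * -u * s = a by ring] at this

theorem n4_x6 (a s b v u : F) : n4 ρ ν a s b v = n4 ρ ν a s (b - u * v) v := by
  refine dim_eq (xe 6 u) (fun z hz => map6_P4 hz u) fun z hz => ?_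
  rw [xe_inv]
  have := map6_P4 hz (-u)
  rwa [show b - u * v - -u * v = b by ring] at this

theorem n4_tt (a s b v : F) (x y : Fˣ) :
    n4 ρ ν a s b v = n4 ρ ν (((x⁻¹ * y)⁻¹ : Fˣ) * a) (((x⁻¹ : Fˣ) : F) * s)
      (((x ^ 3 * y⁻¹)⁻¹ : Fˣ) * b) (((y⁻¹ : Fˣ) : F) * v) := by
  refine dim_eq (tt x y) (fun z hz => mapT_P4 hz x y) fun z hz => ?_
  rw [tt_inv]
  have := mapT_P4 hz x⁻¹ y⁻¹
  simp only [← mul_assoc, ← Units.val_mul] at this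
  rw [show (x⁻¹⁻¹ * y⁻¹)⁻¹ * (x⁻¹ * y)⁻¹ = 1 by
      rw [inv_inv, ← mul_inv, mul_mul_mul_comm, mul_inv_cancel, inv_mul_cancel, one_mul, inv_one],
    show (x⁻¹)⁻¹ * x⁻¹ = 1 from inv_mul_cancel _, show (y⁻¹)⁻¹ * y⁻¹ = 1 from inv_mul_cancel _,
    show (x⁻¹ ^ 3 * (y⁻¹)⁻¹)⁻¹ * (x ^ 3 * y⁻¹)⁻¹ = 1 by
      rw [inv_pow, ← mul_inv (x ^ 3) y⁻¹, inv_inv, mul_inv_cancel]] at this
  simpa using this

theorem n4_a (h3 : (3 : F) = 0) {s : F} (hs : s ≠ 0) (a b v : F) :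
    n4 ρ ν a s b v = n4 ρ ν 0 s b v := by
  rw [n4_x7 h3 a s b v (a / s)]
  congr 1
  rw [two_eq h3]
  field_simp
  ring

theorem n4_b {v : F} (hv : v ≠ 0) (a s b : F) : n4 ρ ν a s b v = n4 ρ ν a s 0 v := by
  rw [n4_x6 a s b v (b / v), div_mul_cancel₀ b hv, sub_self]

/-- The generic dimension. -/
theorem n4_generic (h3 : (3 : F) = 0) {s v : F} (hs : s ≠ 0) (hv : v ≠ 0) (a b : F) :
    n4 ρ ν a s b v = n4 ρ ν 0 1 0 1 := by
  rw [n4_a h3 hs, n4_b hv, n4_tt 0 s 0 v (Units.mk0 s hs) (Units.mk0 v hv)]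
  simp [hs, hv]

theorem n4_s (h3 : (3 : F) = 0) {s : F} (hs : s ≠ 0) (a : F) : n4 ρ ν a s 0 0 = n4 ρ ν 0 1 0 0 := by
  rw [n4_a h3 hs, n4_tt 0 s 0 0 (Units.mk0 s hs) 1]
  simp [hs]

theorem n4_v {v : F} (hv : v ≠ 0) (b : F) : n4 ρ ν 0 0 b v = n4 ρ ν 0 0 0 1 := by
  rw [n4_b hv, n4_tt 0 0 0 v 1 (Units.mk0 v hv)]
  simp [hv]

/-! ### Sums of slices -/

theorem finrank_eq_P4 {a s b v : F} {P : Submodule ℂ M}
    (h : ∀ z, z ∈ P ↔ z ∈ Eg ρ ν 8 a ∧ z ∈ Eg ρ ν 9 s ∧ z ∈ Eg ρ ν 10 b ∧ z ∈ Eg ρ ν 11 v) :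
    finrank ℂ P = n4 ρ ν a s b v := by
  rw [n4, Submodule.ext (fun z => (h z).trans mem_P4.symm)]

variable (hν : ν ≠ 1)
include hν

/-- An intersection of `E 11`, `E 10` pieces split by 9 and 8. -/
theorem split98 (h3 : (3 : F) = 0) (b v : F) :
    finrank ℂ (Eg ρ ν 10 b ⊓ Eg ρ ν 11 v : Submodule ℂ M) = ∑ s : F, ∑ a : F, n4 ρ ν a s b v := by
  rw [sum_split hν 9 (Eg ρ ν 10 b ⊓ Eg ρ ν 11 v) fun t z hz =>
    ⟨map_comm (by decide) t hz.1, map_comm (by decide) t hz.2⟩]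
  refine Finset.sum_congr rfl fun s _ => ?_
  rw [sum_split hν 8 (Eg ρ ν 10 b ⊓ Eg ρ ν 11 v ⊓ Eg ρ ν 9 s) fun t z hz =>
    ⟨⟨map_comm (by decide) t hz.1.1, map_comm (by decide) t hz.1.2⟩, map_commute (comm_8_9 h3 t) hz.2⟩]
  refine Finset.sum_congr rfl fun a _ => ?_
  exact finrank_eq_P4 fun z => by simp only [Submodule.mem_inf]; tauto

theorem split_E11 (h3 : (3 : F) = 0) (v : F) :
    finrank ℂ (Eg ρ ν 11 v) = ∑ b : F, ∑ s : F, ∑ a : F, n4 ρ ν a s b v := by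
  rw [sum_split hν 10 (Eg ρ ν 11 v) fun t z hz => map_comm (by decide) t hz]
  exact Finset.sum_congr rfl fun b _ => by rw [inf_comm]; exact split98 hν h3 b v

theorem split_E10 (h3 : (3 : F) = 0) (b : F) :
    finrank ℂ (Eg ρ ν 10 b) = ∑ v : F, ∑ s : F, ∑ a : F, n4 ρ ν a s b v := by
  rw [sum_split hν 11 (Eg ρ ν 10 b) fun t z hz => map_comm (by decide) t hz]
  exact Finset.sum_congr rfl fun v _ => split98 hν h3 b v

theorem split_9_11 (h3 : (3 : F) = 0) (s v : F) :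
    finrank ℂ (Eg ρ ν 9 s ⊓ Eg ρ ν 11 v : Submodule ℂ M) = ∑ b : F, ∑ a : F, n4 ρ ν a s b v := by
  rw [sum_split hν 10 (Eg ρ ν 9 s ⊓ Eg ρ ν 11 v) fun t z hz =>
    ⟨map_comm (by decide) t hz.1, map_comm (by decide) t hz.2⟩]
  refine Finset.sum_congr rfl fun b _ => ?_
  rw [sum_split hν 8 (Eg ρ ν 9 s ⊓ Eg ρ ν 11 v ⊓ Eg ρ ν 10 b) fun t z hz =>
    ⟨⟨map_commute (comm_8_9 h3 t) hz.1.1, map_comm (by decide) t hz.1.2⟩, map_comm (by decide) t hz.2⟩]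
  refine Finset.sum_congr rfl fun a _ => ?_
  exact finrank_eq_P4 fun z => by simp only [Submodule.mem_inf]; tauto

theorem split_8_11 (h3 : (3 : F) = 0) (a v : F) :
    finrank ℂ (Eg ρ ν 8 a ⊓ Eg ρ ν 11 v : Submodule ℂ M) = ∑ s : F, ∑ b : F, n4 ρ ν a s b v := by
  rw [sum_split hν 9 (Eg ρ ν 8 a ⊓ Eg ρ ν 11 v) fun t z hz =>
    ⟨map_commute (fun u => (comm_8_9 h3 u t).symm) hz.1, map_comm (by decide) t hz.2⟩]
  refine Finset.sum_congr rfl fun s _ => ?_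
  rw [sum_split hν 10 (Eg ρ ν 8 a ⊓ Eg ρ ν 11 v ⊓ Eg ρ ν 9 s) fun t z hz =>
    ⟨⟨map_comm (by decide) t hz.1.1, map_comm (by decide) t hz.1.2⟩, map_comm (by decide) t hz.2⟩]
  refine Finset.sum_congr rfl fun b _ => ?_
  exact finrank_eq_P4 fun z => by simp only [Submodule.mem_inf]; tauto

theorem split_9_10 (h3 : (3 : F) = 0) (s b : F) :
    finrank ℂ (Eg ρ ν 9 s ⊓ Eg ρ ν 10 b : Submodule ℂ M) = ∑ v : F, ∑ a : F, n4 ρ ν a s b v := by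
  rw [sum_split hν 11 (Eg ρ ν 9 s ⊓ Eg ρ ν 10 b) fun t z hz =>
    ⟨map_comm (by decide) t hz.1, map_comm (by decide) t hz.2⟩]
  refine Finset.sum_congr rfl fun v _ => ?_
  rw [sum_split hν 8 (Eg ρ ν 9 s ⊓ Eg ρ ν 10 b ⊓ Eg ρ ν 11 v) fun t z hz =>
    ⟨⟨map_commute (comm_8_9 h3 t) hz.1.1, map_comm (by decide) t hz.1.2⟩, map_comm (by decide) t hz.2⟩]
  refine Finset.sum_congr rfl fun a _ => ?_
  exact finrank_eq_P4 fun z => by simp only [Submodule.mem_inf]; tauto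

end Cfsg.Agent.Lib.G2Deg48
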