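import Cfsg.Agent.Lib.G2Deg48.Three
import Mathlib.GroupTheory.SpecificGroups.Cyclic

/-!
The fixed space of the root groups 11 and 10 when 3 is invertible.
-/

set_option autoImplicit false
set_option linter.unusedSectionVars false

namespace Cfsg.Agent.Lib.G2Deg48

open Module

variable {F : Type*} [Field F] [Fintype F]

theorem exists_unit (hF : 5 ≤ Fintype.card F) : ∃ x : Fˣ, x ^ 3 ≠ 1 ∧ x ^ 2 ≠ 1 ∧ x ≠ 1 := by
  classical
  obtain ⟨g, hg⟩ := IsCyclic.exists_generator (α := Fˣ)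
  have ho : orderOf g = Fintype.card F - 1 := by
    rw [orderOf_eq_card_of_forall_mem_zpowers hg, Nat.card_eq_fintype_card, Fintype.card_units]
  refine ⟨g, fun h => ?_, fun h => ?_, fun h => ?_⟩
  · have := Nat.le_of_dvd (by norm_num) (orderOf_dvd_of_pow_eq_one h)
    omega
  · have := Nat.le_of_dvd (by norm_num) (orderOf_dvd_of_pow_eq_one h)
    omega
  · rw [h, orderOf_one] at ho
    omega

variable {M : Type*} [AddCommGroup M] [Module ℂ M] [FiniteDimensional ℂ M]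
variable {ρ : Representation ℂ (Gr F) M} {ν : AddChar F ℂ}

local notation "E" => Eg ρ ν

variable (hν : ν ≠ 1)
include hν

/-- A line preserved by a root group and a torus element moving it is fixed by the root group. -/
theorem line_fix {R : Submodule ℂ M} (hd : finrank ℂ R ≤ 1) (n : Fin 12)
    (hR : ∀ s, ∀ z ∈ R, ρ (xe n s) z ∈ R) (x y : Fˣ) (hT : ∀ z ∈ R, ρ (tt x y) z ∈ R)
    (hc : ch n x y ≠ 1) {z : M} (hz : z ∈ R) : z ∈ E n 0 := by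
  by_cases h0 : z = 0
  · rw [h0]; exact Submodule.zero_mem _
  obtain ⟨a, w, hw, hwa, w0⟩ := exists_eig hν n R hR (pos_of_mem hz h0)
  obtain ⟨c, hcw⟩ := eq_smul_of_line hd hw w0 (hT w hw)
  have ha : a = 0 := by
    have e := param_unique hν (hcw ▸ Submodule.smul_mem _ c hwa) (map_tt x y hwa)
      fun h => w0 (ExcDeg48.rep_inj ρ (tt x y) (h.trans (map_zero _).symm))
    by_contra hne
    refine hc ?_
    have h1 : (((ch n x y)⁻¹ : Fˣ) : F) = 1 := mul_right_cancel₀ hne (e.symm.trans (one_mul a).symm)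
    rwa [Units.val_eq_one, inv_eq_one] at h1
  obtain ⟨d, rfl⟩ := eq_smul_of_line hd hw w0 hz
  rw [ha] at hwa
  exact Submodule.smul_mem _ d hwa

/-- The lines with trivial 11 and 9 and non-trivial 10 are fixed by 8 and 6. -/
theorem low_mem (h3 : (3 : F) ≠ 0) (hF : 5 ≤ Fintype.card F)
    (hm : finrank ℂ (P3 ρ ν 1 0 0) = 1) {b : F} (hb : b ≠ 0) {z : M} (hz : z ∈ P3 ρ ν 0 0 b) :
    z ∈ E 8 0 ∧ z ∈ E 6 0 := by
  obtain ⟨x, hx3, hx2, -⟩ := exists_unit hF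
  have hd : finrank ℂ (P3 ρ ν 0 0 b) ≤ 1 := ((dim_slice hν h3 hb 0).trans hm).le
  have hT : ∀ w ∈ P3 ρ ν 0 0 b, ρ (tt x (x ^ 3)) w ∈ P3 ρ ν 0 0 b := by
    intro w hw
    have h := mapT_P3 hw x (x ^ 3)
    rwa [mul_inv_cancel, inv_one, Units.val_one, one_mul, mul_zero, mul_zero] at h
  refine ⟨line_fix hν hd 8 (fun s w hw => by simpa using map8_P3 hw s) x (x ^ 3) hT ?_ hz,
    line_fix hν hd 6 (fun s w hw => by simpa using map6_P3 hw s) x (x ^ 3) hT ?_ hz⟩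
  · rwa [ch8, pow_succ x 2, mul_comm (x ^ 2) x, ← mul_assoc, inv_mul_cancel, one_mul]
  · rwa [ch6, inv_pow, ← pow_mul, show 3 * 2 = 3 + 3 from rfl, pow_add, ← mul_assoc, inv_mul_cancel,
      one_mul]

/-- Every non-trivial 6 occurs with trivial 11, 10, 9, 8. -/
theorem exists_line (h3 : (3 : F) ≠ 0) (hF : 5 ≤ Fintype.card F)
    (hm : finrank ℂ (P3 ρ ν 1 0 0) = 1) {t : F} (ht : t ≠ 0) :
    ∃ z : M, z ≠ 0 ∧ z ∈ E 11 0 ∧ z ∈ E 10 0 ∧ z ∈ E 9 0 ∧ z ∈ E 8 0 ∧ z ∈ E 6 t := by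
  obtain ⟨e, he, h⟩ := (cj_na (F := F) 10 6 (by decide)).map2 (ρ := ρ) (ν := ν)
  have hb : t / e ≠ 0 := div_ne_zero ht he
  obtain ⟨w, hw, w0⟩ := inj_nontriv
    (show 0 < finrank ℂ (P3 ρ ν 0 0 (t / e)) by rw [dim_slice hν h3 hb, hm]; exact one_pos)
  obtain ⟨h11, h9, h10⟩ := mem_P3.1 hw
  obtain ⟨h8, h6⟩ := low_mem hν h3 hF hm hb hw
  refine ⟨ρ na w, fun h => w0 (ExcDeg48.rep_inj ρ na (h.trans (map_zero _).symm)),
    (cj_na 11 11 (by decide)).map_zero h11, (cj_na 6 10 (by decide)).map_zero h6,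
    (cj_na 8 9 (by decide)).map_zero h8, (cj_na 9 8 (by decide)).map_zero h9, ?_⟩
  have := (h (t / e)).1 w h10
  rwa [mul_div_cancel₀ t he] at this

omit hν

theorem x6_U0 {z : M} (hz : z ∈ E 11 0 ⊓ E 10 0) (s : F) : ρ (xe 6 s) z ∈ E 11 0 ⊓ E 10 0 :=
  ⟨map_comm (by decide) s hz.1, by simpa using x6_E10 hz.1 hz.2 s⟩

/-- The torus makes the 6-eigenspaces of the fixed space of 11 and 10 equal. -/
theorem dim_U0_6 {t : F} (ht : t ≠ 0) :
    finrank ℂ (E 11 0 ⊓ E 10 0 ⊓ E 6 t : Submodule ℂ M) =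
      finrank ℂ (E 11 0 ⊓ E 10 0 ⊓ E 6 1 : Submodule ℂ M) := by
  have key : ∀ (u : Fˣ) (a : F), ∀ z ∈ (E 11 0 ⊓ E 10 0 ⊓ E 6 a : Submodule ℂ M),
      ρ (tt u u) z ∈ (E 11 0 ⊓ E 10 0 ⊓ E 6 ((u : F) * a) : Submodule ℂ M) := by
    rintro u a z ⟨⟨h1, h2⟩, h3⟩
    refine ⟨⟨by simpa using map_tt u u h1, by simpa using map_tt u u h2⟩, ?_⟩
    have := map_tt u u h3
    rwa [show (ch 6 u u)⁻¹ = u by rw [ch6]; group] at this
  refine (dim_eq (ρ := ρ) (tt (Units.mk0 t ht) (Units.mk0 t ht)) (fun z hz => ?_) fun z hz => ?_).symm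
  · have h := key (Units.mk0 t ht) 1 z hz
    rwa [Units.val_mk0, mul_one] at h
  · rw [tt_inv]
    simpa [ht] using key (Units.mk0 t ht)⁻¹ t z hz

include hν

theorem dim_U0 : finrank ℂ (E 11 0 ⊓ E 10 0 : Submodule ℂ M) =
    finrank ℂ (E 11 0 ⊓ E 10 0 ⊓ E 6 0 : Submodule ℂ M) +
      (Fintype.card F - 1) * finrank ℂ (E 11 0 ⊓ E 10 0 ⊓ E 6 1 : Submodule ℂ M) := by
  classical
  rw [sum_split hν 6 (E 11 0 ⊓ E 10 0) fun s z hz => x6_U0 hz s]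
  exact sum_ne_zero_split (0 : F) _ _ fun a ha => dim_U0_6 ha

/-- The first lower bound, and the shape of a representation of degree at most `q³`. -/
theorem three_bound (h3 : (3 : F) ≠ 0) (hF : 5 ≤ Fintype.card F)
    (hnt : ∃ s : F, ρ (xe 11 s) ≠ 1) :
    Fintype.card F ^ 3 - 1 ≤ finrank ℂ M ∧
      (finrank ℂ M ≤ Fintype.card F ^ 3 →
        finrank ℂ (P3 ρ ν 1 0 0) = 1 ∧
          finrank ℂ (E 11 0 ⊓ E 10 0 ⊓ E 6 1 : Submodule ℂ M) = 1 ∧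
            finrank ℂ (E 11 0 ⊓ E 10 0 ⊓ E 6 0 : Submodule ℂ M) ≤ 1 ∧
              finrank ℂ M = Fintype.card F ^ 3 - 1 +
                finrank ℂ (E 11 0 ⊓ E 10 0 ⊓ E 6 0 : Submodule ℂ M)) := by
  have hk := dim_total (ρ := ρ) hν h3
  have hU := dim_U0 (ρ := ρ) hν
  have hn : finrank ℂ (P3 ρ ν 1 0 0) = 1 → 1 ≤ finrank ℂ (E 11 0 ⊓ E 10 0 ⊓ E 6 1 : Submodule ℂ M) := by
    intro hm
    obtain ⟨z, z0, h11, h10, -, -, h6⟩ := exists_line hν h3 hF hm (one_ne_zero (α := F))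
    exact pos_of_mem ⟨⟨h11, h10⟩, h6⟩ z0
  have hm : 1 ≤ finrank ℂ (P3 ρ ν 1 0 0) := by
    by_contra hcon
    obtain ⟨s, hs⟩ := hnt
    refine hs (xe_trivial hν 11 (fun v hv => ?_) s)
    rw [dim_E11 hν h3 hv, show finrank ℂ (P3 ρ ν 1 0 0) = 0 by omega, mul_zero]
  revert hk hU hn hm
  generalize finrank ℂ (P3 ρ ν 1 0 0) = m
  generalize finrank ℂ (E 11 0 ⊓ E 10 0 ⊓ E 6 1 : Submodule ℂ M) = n
  generalize finrank ℂ (E 11 0 ⊓ E 10 0 ⊓ E 6 0 : Submodule ℂ M) = d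
  generalize finrank ℂ (E 11 0 ⊓ E 10 0 : Submodule ℂ M) = u
  intro hk hU hn hm
  rw [hU] at hk
  obtain ⟨j, hj⟩ : ∃ j, Fintype.card F = j + 5 := ⟨_, (Nat.sub_add_cancel hF).symm⟩
  rw [hj] at hk ⊢
  simp only [show j + 5 - 1 = j + 4 from rfl] at hk
  have e : (j + 5) ^ 3 = (j + 4) * ((j + 5) ^ 2 * 1) + (j + 4) * ((j + 5) * 1) + (j + 4) + 1 := by ring
  rcases eq_or_lt_of_le hm with h1 | h1
  · have hn' := hn h1.symm
    subst h1
    refine ⟨?_, fun h => ?_⟩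
    · rw [hk, e]
      have : (j + 4) ≤ (j + 4) * n := Nat.le_mul_of_pos_right _ hn'
      omega
    · rcases eq_or_lt_of_le hn' with h2 | h2
      · subst h2
        simp only [mul_one] at *
        exact ⟨trivial, trivial, by omega, by omega⟩
      · exfalso
        have : (j + 4) * 2 ≤ (j + 4) * n := Nat.mul_le_mul_left _ h2
        omega
  · have h5 : (j + 4) * ((j + 5) ^ 2 * 2) ≤ (j + 4) * ((j + 5) ^ 2 * m) := by gcongr; exact h1
    have h6 : (j + 5) ^ 3 < (j + 4) * ((j + 5) ^ 2 * 2) := by nlinarith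
    exact ⟨by omega, fun h => absurd h (by omega)⟩

end Cfsg.Agent.Lib.G2Deg48
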