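import Cfsg.Agent.Lib.G2Deg48.FourShift
import Cfsg.Agent.Lib.G2Deg48.ThreeLow
import Cfsg.Agent.Lib.G2Deg48.EigTools

/-!
The dimensions in characteristic three of a representation of small degree.
-/

set_option autoImplicit false
set_option linter.unusedSectionVars false

namespace Cfsg.Agent.Lib.G2Deg48

open Module

variable {F : Type*} [Field F] [Fintype F]
variable {M : Type*} [AddCommGroup M] [Module ℂ M] [FiniteDimensional ℂ M]
variable {ρ : Representation ℂ (Gr F) M} {ν : AddChar F ℂ}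

variable (hν : ν ≠ 1) (h3 : (3 : F) = 0)
include hν h3

/-- The generic dimension is positive. -/
theorem generic_pos (hF : 9 ≤ Fintype.card F) (hnt : ∃ t : F, ρ (xe 9 t) ≠ 1) :
    0 < n4 ρ ν 0 1 0 1 := by
  classical
  by_contra hcon
  have hm : n4 ρ ν 0 1 0 1 = 0 := by omega
  have hm1 : 0 < n4 ρ ν 0 1 0 0 := by
    by_contra h
    obtain ⟨t, ht⟩ := hnt
    refine ht (xe_trivial hν 9 (fun s hs => ?_) t)
    rw [dim_E9_four hν h3 hs, hm, show n4 ρ ν 0 1 0 0 = 0 by omega]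
    simp
  obtain ⟨w, hw, w0⟩ := inj_nontriv (show 0 < finrank ℂ (P4 ρ ν 1 1 0 0) by
    rw [show finrank ℂ (P4 ρ ν 1 1 0 0) = n4 ρ ν 1 1 0 0 from rfl, n4_s h3 one_ne_zero]; exact hm1)
  obtain ⟨h8, h9, h10, h11⟩ := mem_P4.1 hw
  have key : ∀ u : F, u ≠ 0 → 1 + u ≠ 0 → w ∈ Eg ρ ν 6 (1 / u - 1 / u ^ 2) := by
    intro u hu h1
    -- the translate has trivial 10
    have e9 : ρ (xe 4 (-u)) w ∈ Eg ρ ν 9 (1 + u) := by
      have := x4_E9 h3 h8 h9 (-u)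
      rwa [show (1 : F) + 2 * -u * 1 = 1 + u by rw [two_eq h3]; ring] at this
    have e8 : ρ (xe 4 (-u)) w ∈ Eg ρ ν 8 1 := map_commute (comm_4_8 h3 (-u)) h8
    have e11 : ρ (xe 4 (-u)) w ∈ Eg ρ ν 11 0 := map_comm (by decide) _ h11
    have e10 : ρ (xe 4 (-u)) w ∈ Eg ρ ν 10 0 := by
      refine le_Eg_zero hν 10 (R := Eg ρ ν 8 1 ⊓ Eg ρ ν 9 (1 + u) ⊓ Eg ρ ν 11 0)
        (fun t z hz => ⟨⟨map_comm (by decide) t hz.1.1, map_comm (by decide) t hz.1.2⟩,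
          map_comm (by decide) t hz.2⟩) (fun b hb z hz => ?_) ⟨⟨e8, e9⟩, e11⟩
      by_contra z0
      have := pos_of_mem (mem_P4.2 ⟨hz.1.1.1, hz.1.1.2, hz.2, hz.1.2⟩) z0
      rw [show finrank ℂ (P4 ρ ν 1 (1 + u) b 0) = n4 ρ ν 1 (1 + u) b 0 from rfl, n4_sb hν h3 h1 hb, hm] at this
      omega
    refine mem_Eg.2 fun τ => ?_
    have hu3 : u ^ 3 ≠ 0 := pow_ne_zero 3 hu
    have h := xe_Eg_zero e10 (τ / u ^ 3)
    rw [← Module.End.mul_apply, ← map_mul, rel_4_10, map_mul, Module.End.mul_apply] at h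
    have h' := ExcDeg48.rep_inj ρ (xe 4 (-u)) h
    have hst : ∀ z, z ∈ P4 ρ ν 1 1 0 0 → ∀ t, ρ (xe 6 t) z ∈ P4 ρ ν 1 1 0 0 := fun z hz t => by
      have := map6_P4 hz t
      rwa [mul_zero, sub_zero] at this
    obtain ⟨k8, k9, k10, k11⟩ := mem_P4.1 (hst w hw τ)
    simp only [map_mul, Module.End.mul_apply, xe_Eg_zero h11,
      show -((-u) ^ 3 * (τ / u ^ 3)) = τ by field_simp] at h'
    rw [xe_Eg k8, map_smul, xe_Eg k9, map_smul, map_smul, smul_smul, xe_Eg_zero k10,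
      ← AddChar.map_add_eq_mul] at h'
    generalize hd : ν _ = d at h'
    have hd0 : d ≠ 0 := by rw [← hd]; exact (AddChar.val_isUnit _ _).ne_zero
    rw [(eq_inv_smul_iff₀ hd0).2 h', ← hd, ← AddChar.map_neg_eq_inv]
    congr 2
    field_simp
    ring
  obtain ⟨u₁, hu₁, hu₁'⟩ : ∃ u : F, u ≠ 0 ∧ 1 + u ≠ 0 := ⟨1, one_ne_zero, by
    rw [one_add_one_eq_two, two_eq h3]; exact neg_ne_zero.2 one_ne_zero⟩
  obtain ⟨u₂, hu₂⟩ : ∃ u : F, u ∉ ({0, -1, u₁, u₁ / (u₁ - 1)} : Finset F) := by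
    by_contra h
    push Not at h
    have := Finset.card_le_card (show (Finset.univ : Finset F) ⊆ _ from fun u _ => h u)
    rw [Finset.card_univ] at this
    exact absurd (this.trans Finset.card_le_four) (by omega)
  simp only [Finset.mem_insert, Finset.mem_singleton, not_or] at hu₂
  obtain ⟨a1, a2, a3, a4⟩ := hu₂
  have h := param_unique hν (key u₁ hu₁ hu₁') (key u₂ a1 fun e => a2 (by linear_combination e)) w0
  field_simp at h
  have h' : (u₂ - u₁) * (u₂ * (u₁ - 1) - u₁) = 0 := by linear_combination h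
  rcases mul_eq_zero.1 h' with e | e
  · exact a3 (sub_eq_zero.1 e)
  · by_cases hx : u₁ - 1 = 0
    · rw [hx, mul_zero, zero_sub, neg_eq_zero] at e; exact hu₁ e
    · exact a4 ((eq_div_iff hx).2 (sub_eq_zero.1 e))

/-- Either the degree is large or the slices are known. -/
theorem four_cases (hF : 9 ≤ Fintype.card F) (hnt : ∃ t : F, ρ (xe 9 t) ≠ 1) :
    Fintype.card F ^ 4 + Fintype.card F ^ 2 + 1 ≤ finrank ℂ M ∨
      ((∀ a, a ≠ 0 → n4 ρ ν a 0 0 0 = Fintype.card F) ∧ (∀ b, b ≠ 0 → n4 ρ ν 0 0 b 0 = Fintype.card F) ∧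
        finrank ℂ M + 2 * Fintype.card F =
          Fintype.card F ^ 4 + Fintype.card F ^ 2 + n4 ρ ν 0 0 0 0) := by
  classical
  have hpos := generic_pos hν h3 hF hnt
  have hdim := dim_four (ρ := ρ) hν h3
  obtain ⟨r, hr⟩ : ∃ r, Fintype.card F = 3 * r := by
    obtain ⟨p, hp⟩ := CharP.exists F
    have : Fact p.Prime := ⟨CharP.char_is_prime F p⟩
    have hp3 : p = 3 := (Nat.prime_dvd_prime_iff_eq Fact.out Nat.prime_three).1
      ((CharP.cast_eq_zero_iff F p 3).1 (by exact_mod_cast h3))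
    subst hp3
    obtain ⟨n, -, hn⟩ := FiniteField.card F 3
    obtain ⟨k, hk⟩ := Nat.exists_eq_succ_of_ne_zero n.ne_zero
    exact ⟨3 ^ k, by rw [hn, hk, pow_succ']⟩
  have hra : ∀ a : F, a ≠ 0 → (∑ b : F, n4 ρ ν a 0 b 0) =
      (Fintype.card F - 1) * n4 ρ ν 0 1 0 1 + n4 ρ ν 0 1 0 0 := fun a ha => sum_a hν h3 ha
  have hrb : ∀ b : F, b ≠ 0 → (∑ a : F, n4 ρ ν a 0 b 0) =
      (Fintype.card F - 1) * n4 ρ ν 0 1 0 1 + n4 ρ ν 0 0 0 1 := fun b hb => sum_b hν h3 hb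
  have hR1 : (Fintype.card F - 1) * ((Fintype.card F - 1) * n4 ρ ν 0 1 0 1 + n4 ρ ν 0 1 0 0) ≤
      ∑ b : F, ∑ a : F, n4 ρ ν a 0 b 0 := by
    rw [Finset.sum_comm, sum_split_zero _ _ hra]
    exact Nat.le_add_left _ _
  have hR2 : (Fintype.card F - 1) * ((Fintype.card F - 1) * n4 ρ ν 0 1 0 1 + n4 ρ ν 0 0 0 1) ≤
      ∑ b : F, ∑ a : F, n4 ρ ν a 0 b 0 := by
    rw [sum_split_zero _ _ hrb]
    exact Nat.le_add_left _ _
  obtain ⟨d1, hd1⟩ : r ∣ (Fintype.card F - 1) * n4 ρ ν 0 1 0 1 + n4 ρ ν 0 1 0 0 := by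
    rw [← hra 1 one_ne_zero]
    exact Finset.dvd_sum fun b _ => n4_dvd hν h3 hr (Or.inl one_ne_zero)
  obtain ⟨d2, hd2⟩ : r ∣ (Fintype.card F - 1) * n4 ρ ν 0 1 0 1 + n4 ρ ν 0 0 0 1 := by
    rw [← hrb 1 one_ne_zero]
    exact Finset.dvd_sum fun a _ => n4_dvd hν h3 hr (Or.inr one_ne_zero)
  by_cases hbig : Fintype.card F ^ 4 + Fintype.card F ^ 2 + 1 ≤ finrank ℂ M
  · exact Or.inl hbig
  refine Or.inr ?_
  obtain ⟨j, hj⟩ : ∃ j, Fintype.card F = j + 1 := ⟨_, (Nat.sub_add_cancel (by omega)).symm⟩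
  have hj8 : 8 ≤ j := by omega
  have hj1 : Fintype.card F - 1 = j := by omega
  rw [hj1] at hdim hR1 hR2 hd1 hd2 hra hrb
  -- the three numbers are one
  have hm : n4 ρ ν 0 1 0 1 = 1 := by
    by_contra hne
    apply hbig
    generalize n4 ρ ν 0 1 0 1 = m at hdim hR1 hpos hne
    generalize n4 ρ ν 0 1 0 0 = m1 at hdim hR1
    generalize n4 ρ ν 0 0 0 1 = m2 at hdim
    rw [hdim, hj]
    have h2 : 2 ≤ m := by omega
    calc (j + 1) ^ 4 + (j + 1) ^ 2 + 1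
        ≤ j * ((j + 1) * (j * ((j + 1) * 2) + (0 + j * 2))) +
            (j * (j * ((j + 1) * 2)) + 0 + j * (j * 2)) := by
            nlinarith [Nat.mul_le_mul hj8 hj8, Nat.zero_le (j ^ 3), Nat.zero_le (j ^ 4), Nat.mul_le_mul_left j hj8]
      _ ≤ _ := by
        refine Nat.add_le_add ?_ (Nat.add_le_add (Nat.add_le_add ?_ (Nat.zero_le _)) ?_)
        · gcongr; exact Nat.zero_le _
        · gcongr
        · refine le_trans ?_ hR1
          gcongr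
          exact le_trans (Nat.mul_le_mul_left j h2) (Nat.le_add_right _ _)
  rw [hm, mul_one] at hd1 hd2
  have hsmall : ∀ d n : ℕ, j + n = r * d → n = 1 ∨ 4 ≤ n := by
    intro d n h
    rcases Nat.lt_or_ge d 3 with hd | hd
    · exfalso; interval_cases d <;> omega
    · rcases Nat.lt_or_ge 3 d with hd' | hd'
      · right
        have : r * 4 ≤ r * d := Nat.mul_le_mul_left r hd'
        omega
      · left
        have : d = 3 := by omega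
        subst this
        omega
  have hm1 : n4 ρ ν 0 1 0 0 = 1 := by
    rcases hsmall d1 _ hd1 with h | h
    · exact h
    exfalso
    have hm2 : 1 ≤ n4 ρ ν 0 0 0 1 := by rcases hsmall d2 _ hd2 with h' | h' <;> omega
    apply hbig
    rw [hdim, hj, hm]
    rw [hm] at hR1
    generalize n4 ρ ν 0 1 0 0 = m1 at h hR1
    generalize n4 ρ ν 0 0 0 1 = m2 at hm2
    calc (j + 1) ^ 4 + (j + 1) ^ 2 + 1
        ≤ j * ((j + 1) * (j * ((j + 1) * 1) + (1 + j * 1))) +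
            (j * (j * ((j + 1) * 1)) + j * ((j + 1) * 4) + j * (j * 1 + 4)) := by nlinarith
      _ ≤ _ := by
        refine Nat.add_le_add ?_ (Nat.add_le_add ?_ (le_trans ?_ hR1)) <;> gcongr
  have hm2 : n4 ρ ν 0 0 0 1 = 1 := by
    rcases hsmall d2 _ hd2 with h | h
    · exact h
    exfalso
    apply hbig
    rw [hdim, hj, hm, hm1]
    rw [hm] at hR2
    generalize n4 ρ ν 0 0 0 1 = m2 at h hR2
    calc (j + 1) ^ 4 + (j + 1) ^ 2 + 1
        ≤ j * ((j + 1) * (j * ((j + 1) * 1) + (4 + j * 1))) +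
            (j * (j * ((j + 1) * 1)) + j * ((j + 1) * 1) + j * (j * 1 + 4)) := by nlinarith
      _ ≤ _ := by
        refine Nat.add_le_add ?_ (Nat.add_le_add le_rfl (le_trans ?_ hR2)) <;> gcongr
  rw [hm, hm1, mul_one] at hra
  rw [hm, hm2, mul_one] at hrb
  -- the mixed slices vanish
  have hmix : ∀ a b : F, a ≠ 0 → b ≠ 0 → n4 ρ ν a 0 b 0 = 0 := by
    intro a b ha hb
    by_contra hne
    have hge : r ≤ n4 ρ ν a 0 b 0 :=
      Nat.le_of_dvd (Nat.pos_of_ne_zero hne) (n4_dvd hν h3 hr (Or.inl ha))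
    let g : Fˣ → F := fun x => b * (((x⁻¹ : Fˣ) : F)) ^ 2
    have hg : ∀ x : Fˣ, n4 ρ ν a 0 (g x) 0 = n4 ρ ν a 0 b 0 := by
      intro x
      rw [n4_tt a 0 b 0 x x, inv_mul_cancel, inv_one, Units.val_one, one_mul, mul_zero,
        show (x ^ 3 * x⁻¹)⁻¹ = x⁻¹ ^ 2 by group, Units.val_pow_eq_pow_val, mul_comm]
    have hcard : j ≤ 2 * (Finset.univ.image g).card := by
      have h := Finset.card_le_mul_card_image (f := g) Finset.univ 2 fun y hy => by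
        obtain ⟨x, -, rfl⟩ := Finset.mem_image.1 hy
        refine le_trans (Finset.card_le_card (t := ({x, -x} : Finset Fˣ)) fun x' hx' => ?_) Finset.card_le_two
        have e : (((x'⁻¹ : Fˣ) : F)) ^ 2 = (((x⁻¹ : Fˣ) : F)) ^ 2 :=
          mul_left_cancel₀ hb (Finset.mem_filter.1 hx').2
        rw [Finset.mem_insert, Finset.mem_singleton]
        rcases sq_eq_sq_iff_eq_or_eq_neg.1 e with h' | h'
        · exact Or.inl (inv_injective (Units.ext h'))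
        · exact Or.inr (inv_injective (Units.ext (by rw [h', inv_neg, Units.val_neg])))
      rw [Finset.card_univ, Fintype.card_units, hj1] at h
      exact h
    have hsum : (Finset.univ.image g).card * r ≤ ∑ b' : F, n4 ρ ν a 0 b' 0 := by
      refine le_trans ?_ (Finset.sum_le_sum_of_subset (Finset.subset_univ (Finset.univ.image g)))
      rw [← smul_eq_mul, ← Finset.sum_const]
      refine Finset.sum_le_sum fun y hy => ?_
      obtain ⟨x, -, rfl⟩ := Finset.mem_image.1 hy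
      rw [hg]
      exact hge
    rw [hra a ha] at hsum
    generalize (Finset.univ.image g).card = c at hcard hsum
    rcases Nat.lt_or_ge c 4 with hc | hc
    · omega
    · have : 4 * r ≤ c * r := Nat.mul_le_mul_right r hc
      omega
  have hqa : ∀ a : F, a ≠ 0 → n4 ρ ν a 0 0 0 = Fintype.card F := by
    intro a ha
    have h := hra a ha
    rw [Finset.sum_eq_single (0 : F) (fun b _ hb => hmix a b ha hb) (by simp)] at h
    rw [h]; omega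
  have hqb : ∀ b : F, b ≠ 0 → n4 ρ ν 0 0 b 0 = Fintype.card F := by
    intro b hb
    have h := hrb b hb
    rw [Finset.sum_eq_single (0 : F) (fun a _ ha => hmix a b ha hb) (by simp)] at h
    rw [h]; omega
  refine ⟨hqa, hqb, ?_⟩
  rw [hdim, hm, hm1, hm2, sum_split_zero (fun b => ∑ a : F, n4 ρ ν a 0 b 0) _ hrb,
    sum_split_zero (fun a => n4 ρ ν a 0 0 0) _ hqa, hj]
  simp only [Nat.add_sub_cancel]
  ring

/-- Trivial 8, 9, 10, 11 leave at least `2(q-1)` dimensions. -/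
theorem bot_bound (hF : 5 ≤ Fintype.card F) (hqa : ∀ a, a ≠ 0 → n4 ρ ν a 0 0 0 = Fintype.card F)
    (hqb : ∀ b, b ≠ 0 → n4 ρ ν 0 0 b 0 = Fintype.card F) :
    2 * (Fintype.card F - 1) ≤ n4 ρ ν 0 0 0 0 := by
  classical
  have hq0 : 0 < Fintype.card F := Fintype.card_pos
  -- the pieces of 7
  have h7 : ∀ u : F, u ≠ 0 → finrank ℂ (P4 ρ ν 0 0 0 0 ⊓ Eg ρ ν 7 u : Submodule ℂ M) = 1 := by
    intro u hu
    obtain ⟨e, he, h⟩ := (cj_nb (F := F) 7 8 (by decide)).map2 (ρ := ρ) (ν := ν)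
    have hd : finrank ℂ (Eg ρ ν 9 0 ⊓ Eg ρ ν 10 0 ⊓ Eg ρ ν 11 0 ⊓ Eg ρ ν 7 u : Submodule ℂ M) =
        finrank ℂ (Eg ρ ν 9 0 ⊓ Eg ρ ν 10 0 ⊓ Eg ρ ν 11 0 ⊓ Eg ρ ν 8 (e * u) : Submodule ℂ M) := by
      refine dim_eq nb (fun z hz => ⟨⟨⟨(cj_nb 9 9 (by decide)).map_zero hz.1.1.1,
        (cj_nb 11 10 (by decide)).map_zero hz.1.2⟩, (cj_nb 10 11 (by decide)).map_zero hz.1.1.2⟩,
        (h u).1 z hz.2⟩) fun z hz => ⟨⟨⟨(cj_nb 9 9 (by decide)).inv.map_zero hz.1.1.1,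
        (cj_nb 10 11 (by decide)).inv.map_zero hz.1.2⟩, (cj_nb 11 10 (by decide)).inv.map_zero hz.1.1.2⟩,
        (h u).2 z hz.2⟩
    rw [show finrank ℂ (Eg ρ ν 9 0 ⊓ Eg ρ ν 10 0 ⊓ Eg ρ ν 11 0 ⊓ Eg ρ ν 8 (e * u) : Submodule ℂ M) =
        n4 ρ ν (e * u) 0 0 0 from finrank_eq_P4 fun z => by simp only [Submodule.mem_inf]; tauto,
      hqa _ (mul_ne_zero he hu),
      sum_split hν 8 (Eg ρ ν 9 0 ⊓ Eg ρ ν 10 0 ⊓ Eg ρ ν 11 0 ⊓ Eg ρ ν 7 u) fun t z hz => by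
        refine ⟨⟨⟨map_commute (comm_8_9 h3 t) hz.1.1.1, map_comm (by decide) t hz.1.1.2⟩,
          map_comm (by decide) t hz.1.2⟩, mem_Eg.2 fun s => ?_⟩
        have e1 : xe 7 s * xe 8 t = xe 8 t * xe 7 s * xe 9 (-(2 * s * t)) := by
          rw [rel_7_8 s t, h3]
          simp only [zero_mul, neg_zero, xe_zero, mul_one]
          rw [mul_assoc (xe 7 s), mul_assoc (xe 8 t), xe_add, add_neg_cancel, xe_zero, mul_one]
        rw [← Module.End.mul_apply, ← map_mul, e1, map_mul, map_mul, Module.End.mul_apply,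
          Module.End.mul_apply, xe_Eg_zero hz.1.1.1, xe_Eg hz.2, map_smul]] at hd
    have hrw : ∀ a, finrank ℂ (Eg ρ ν 9 0 ⊓ Eg ρ ν 10 0 ⊓ Eg ρ ν 11 0 ⊓ Eg ρ ν 7 u ⊓ Eg ρ ν 8 a :
        Submodule ℂ M) = finrank ℂ (P4 ρ ν a 0 0 0 ⊓ Eg ρ ν 7 u : Submodule ℂ M) := fun a => by
      rw [Submodule.ext (p := (Eg ρ ν 9 0 ⊓ Eg ρ ν 10 0 ⊓ Eg ρ ν 11 0 ⊓ Eg ρ ν 7 u ⊓ Eg ρ ν 8 a :
        Submodule ℂ M)) (q := P4 ρ ν a 0 0 0 ⊓ Eg ρ ν 7 u)
        (fun z => by simp only [Submodule.mem_inf, mem_P4]; tauto)]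
    rw [Finset.sum_congr rfl fun a _ => hrw a, sum_split_zero _ 1 (fun a ha => ?_)] at hd
    · omega
    -- one piece in each slice
    have key : ∀ c t : F, ∀ z ∈ (P4 ρ ν a 0 0 0 ⊓ Eg ρ ν 7 c : Submodule ℂ M),
        ρ (xe 6 t) z ∈ (P4 ρ ν a 0 0 0 ⊓ Eg ρ ν 7 (c - a * t) : Submodule ℂ M) := by
      rintro c t z ⟨hz, hc⟩
      refine ⟨x6_P4_stable t hz, mem_Eg.2 fun s => ?_⟩
      have hz' := x7_P4_stable h3 s hz
      have h := congrArg (fun g => ρ g z) (rel_7_6 s t)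
      obtain ⟨k8, k9, k10, k11⟩ := mem_P4.1 hz
      simp only [map_mul, Module.End.mul_apply, xe_Eg_zero k11, xe_Eg_zero k10, xe_Eg_zero k9, xe_Eg k8,
        map_smul, xe_Eg hc] at h
      show ρ (xe 7 s) (ρ (xe 6 t) z) = ν ((c - a * t) * s) • ρ (xe 6 t) z
      have hne : ν (a * (s * t)) ≠ 0 := (AddChar.val_isUnit _ _).ne_zero
      rw [(eq_inv_smul_iff₀ hne).2 h.symm, smul_smul, ← AddChar.map_neg_eq_inv, ← AddChar.map_add_eq_mul]
      congr 2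
      ring
    have hconst : ∀ c, finrank ℂ (P4 ρ ν a 0 0 0 ⊓ Eg ρ ν 7 c : Submodule ℂ M) =
        finrank ℂ (P4 ρ ν a 0 0 0 ⊓ Eg ρ ν 7 u : Submodule ℂ M) := fun c => by
      refine le_antisymm (ExcDeg48.rep_le ρ (xe 6 ((c - u) / a)) fun z hz => ?_)
        (ExcDeg48.rep_le ρ (xe 6 ((u - c) / a)) fun z hz => ?_)
      · have := key c ((c - u) / a) z hz
        rwa [mul_div_cancel₀ _ ha, sub_sub_cancel] at this
      · have := key u ((u - c) / a) z hz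
        rwa [mul_div_cancel₀ _ ha, sub_sub_cancel] at this
    have h := sum_split (ρ := ρ) hν 7 (P4 ρ ν a 0 0 0) fun s z hz => x7_P4_stable h3 s hz
    rw [show finrank ℂ (P4 ρ ν a 0 0 0) = n4 ρ ν a 0 0 0 from rfl, hqa a ha, sum_all _ _ hconst] at h
    exact (Nat.eq_of_mul_eq_mul_left hq0 ((mul_one _).trans h)).symm
  -- the pieces of 6
  have h6 : ∀ t : F, t ≠ 0 → finrank ℂ (P4 ρ ν 0 0 0 0 ⊓ Eg ρ ν 6 t : Submodule ℂ M) = 1 := by
    intro t ht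
    obtain ⟨e, he, h⟩ := (cj_na (F := F) 6 10 (by decide)).map2 (ρ := ρ) (ν := ν)
    have hd : finrank ℂ (Eg ρ ν 8 0 ⊓ Eg ρ ν 9 0 ⊓ Eg ρ ν 11 0 ⊓ Eg ρ ν 6 t : Submodule ℂ M) =
        finrank ℂ (Eg ρ ν 8 0 ⊓ Eg ρ ν 9 0 ⊓ Eg ρ ν 11 0 ⊓ Eg ρ ν 10 (e * t) : Submodule ℂ M) := by
      refine dim_eq na (fun z hz => ⟨⟨⟨(cj_na 9 8 (by decide)).map_zero hz.1.1.2,
        (cj_na 8 9 (by decide)).map_zero hz.1.1.1⟩, (cj_na 11 11 (by decide)).map_zero hz.1.2⟩,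
        (h t).1 z hz.2⟩) fun z hz => ⟨⟨⟨(cj_na 8 9 (by decide)).inv.map_zero hz.1.1.2,
        (cj_na 9 8 (by decide)).inv.map_zero hz.1.1.1⟩, (cj_na 11 11 (by decide)).inv.map_zero hz.1.2⟩,
        (h t).2 z hz.2⟩
    rw [show finrank ℂ (Eg ρ ν 8 0 ⊓ Eg ρ ν 9 0 ⊓ Eg ρ ν 11 0 ⊓ Eg ρ ν 10 (e * t) : Submodule ℂ M) =
        n4 ρ ν 0 0 (e * t) 0 from finrank_eq_P4 fun z => by simp only [Submodule.mem_inf]; tauto,
      hqb _ (mul_ne_zero he ht),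
      sum_split hν 10 (Eg ρ ν 8 0 ⊓ Eg ρ ν 9 0 ⊓ Eg ρ ν 11 0 ⊓ Eg ρ ν 6 t) fun s z hz => by
        refine ⟨⟨⟨map_comm (by decide) s hz.1.1.1, map_comm (by decide) s hz.1.1.2⟩,
          map_comm (by decide) s hz.1.2⟩, mem_Eg.2 fun u => ?_⟩
        rw [← Module.End.mul_apply, ← map_mul, rel_10_6, map_mul, map_mul, Module.End.mul_apply,
          Module.End.mul_apply, xe_Eg_zero hz.1.2, xe_Eg hz.2, map_smul]] at hd
    have hrw : ∀ b, finrank ℂ (Eg ρ ν 8 0 ⊓ Eg ρ ν 9 0 ⊓ Eg ρ ν 11 0 ⊓ Eg ρ ν 6 t ⊓ Eg ρ ν 10 b :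
        Submodule ℂ M) = finrank ℂ (P4 ρ ν 0 0 b 0 ⊓ Eg ρ ν 6 t : Submodule ℂ M) := fun b => by
      rw [Submodule.ext (p := (Eg ρ ν 8 0 ⊓ Eg ρ ν 9 0 ⊓ Eg ρ ν 11 0 ⊓ Eg ρ ν 6 t ⊓ Eg ρ ν 10 b :
        Submodule ℂ M)) (q := P4 ρ ν 0 0 b 0 ⊓ Eg ρ ν 6 t)
        (fun z => by simp only [Submodule.mem_inf, mem_P4]; tauto)]
    rw [Finset.sum_congr rfl fun b _ => hrw b, sum_split_zero _ 1 (fun b hb => ?_)] at hd
    · omega
    have hinj : Function.Injective (shift h3 0 b) := by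
      refine (injective_iff_map_eq_zero _).2 fun u hu => ?_
      rw [shift_apply] at hu
      simpa [hb] using hu
    have hconst : ∀ c, finrank ℂ (P4 ρ ν 0 0 b 0 ⊓ Eg ρ ν 6 c : Submodule ℂ M) =
        finrank ℂ (P4 ρ ν 0 0 b 0 ⊓ Eg ρ ν 6 t : Submodule ℂ M) := fun c => by
      obtain ⟨u, hu⟩ := Finite.surjective_of_injective hinj (t - c)
      rw [dim_shift h3 0 b c u, ← shift_apply h3, hu, add_sub_cancel]
    have h := sum_split (ρ := ρ) hν 6 (P4 ρ ν 0 0 b 0) fun s z hz => x6_P4_stable s hz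
    rw [show finrank ℂ (P4 ρ ν 0 0 b 0) = n4 ρ ν 0 0 b 0 from rfl, hqb b hb, sum_all _ _ hconst] at h
    exact (Nat.eq_of_mul_eq_mul_left hq0 ((mul_one _).trans h)).symm
  -- the pieces of 6 have trivial 7
  have h67 : ∀ t : F, t ≠ 0 →
      1 ≤ finrank ℂ (P4 ρ ν 0 0 0 0 ⊓ Eg ρ ν 7 0 ⊓ Eg ρ ν 6 t : Submodule ℂ M) := by
    intro t ht
    obtain ⟨z, hz, z0⟩ := inj_nontriv
      (show 0 < finrank ℂ (P4 ρ ν 0 0 0 0 ⊓ Eg ρ ν 6 t : Submodule ℂ M) by rw [h6 t ht]; exact one_pos)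
    obtain ⟨r, hr3, -, hr1⟩ := exists_unit hF
    have hstab : ∀ s, ∀ w ∈ (P4 ρ ν 0 0 0 0 ⊓ Eg ρ ν 6 t : Submodule ℂ M),
        ρ (xe 7 s) w ∈ (P4 ρ ν 0 0 0 0 ⊓ Eg ρ ν 6 t : Submodule ℂ M) := by
      rintro s w ⟨hw, hwt⟩
      obtain ⟨k8, k9, k10, k11⟩ := mem_P4.1 hw
      refine ⟨x7_P4_stable h3 s hw, ?_⟩
      have := x7_E6 k8 k9 k10 k11 hwt s
      rwa [zero_mul, zero_mul, sub_zero, add_zero] at this
    have hT : ∀ w ∈ (P4 ρ ν 0 0 0 0 ⊓ Eg ρ ν 6 t : Submodule ℂ M),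
        ρ (tt (r ^ 2) (r ^ 3)) w ∈ (P4 ρ ν 0 0 0 0 ⊓ Eg ρ ν 6 t : Submodule ℂ M) := by
      rintro w ⟨hw, hwt⟩
      refine ⟨by simpa using mapT_P4 hw (r ^ 2) (r ^ 3), ?_⟩
      have := map_tt (r ^ 2) (r ^ 3) hwt
      rwa [ch6, show ((r ^ 2)⁻¹ ^ 3 * (r ^ 3) ^ 2)⁻¹ = 1 by group, Units.val_one, one_mul] at this
    have hz7 : z ∈ Eg ρ ν 7 0 := line_fix hν (h6 t ht).le 7 hstab (r ^ 2) (r ^ 3) hT
      (by rw [ch7, show (r ^ 2) ^ 2 * (r ^ 3)⁻¹ = r by group]; exact hr1) hz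
    exact pos_of_mem ⟨⟨hz.1, hz7⟩, hz.2⟩ z0
  have hV7 : Fintype.card F - 1 ≤ finrank ℂ (P4 ρ ν 0 0 0 0 ⊓ Eg ρ ν 7 0 : Submodule ℂ M) := by
    rw [sum_split hν 6 (P4 ρ ν 0 0 0 0 ⊓ Eg ρ ν 7 0) fun s z hz => by
      refine ⟨x6_P4_stable s hz.1, mem_Eg.2 fun u => ?_⟩
      have h := congrArg (fun g => ρ g z) (rel_7_6 u s)
      obtain ⟨k8, k9, k10, k11⟩ := mem_P4.1 hz.1
      simp only [map_mul, Module.End.mul_apply, xe_Eg_zero k11, xe_Eg_zero k10, xe_Eg_zero k9,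
        xe_Eg_zero k8, xe_Eg_zero hz.2] at h
      rw [zero_mul, AddChar.map_zero_eq_one, one_smul]
      exact h.symm,
      ← Finset.add_sum_erase _ _ (Finset.mem_univ (0 : F))]
    refine le_trans ?_ (Nat.le_add_left _ _)
    calc Fintype.card F - 1 = ∑ t ∈ Finset.univ.erase (0 : F), 1 := by
          rw [Finset.sum_const, Finset.card_erase_of_mem (Finset.mem_univ _), Finset.card_univ,
            smul_eq_mul, mul_one]
      _ ≤ _ := Finset.sum_le_sum fun t ht => h67 t (Finset.ne_of_mem_erase ht)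
  rw [show n4 ρ ν 0 0 0 0 = finrank ℂ (P4 ρ ν 0 0 0 0) from rfl,
    sum_split hν 7 (P4 ρ ν 0 0 0 0) fun s z hz => x7_P4_stable h3 s hz, sum_split_zero _ 1 h7]
  omega

end Cfsg.Agent.Lib.G2Deg48
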