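import Cfsg.Agent.Lib.G2Deg48.Four

/-!
The dimensions of the slices in characteristic three, up to three numbers.
-/

set_option autoImplicit false
set_option linter.unusedSectionVars false

namespace Cfsg.Agent.Lib.G2Deg48

open Module

variable {F : Type*} [Field F] [Fintype F]
variable {M : Type*} [AddCommGroup M] [Module ℂ M] [FiniteDimensional ℂ M]
variable {ρ : Representation ℂ (Gr F) M} {ν : AddChar F ℂ}

theorem sum_split_zero {X : Type*} [Fintype X] [Zero X] [DecidableEq X] (f : X → ℕ) (d : ℕ)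
    (h : ∀ a, a ≠ 0 → f a = d) : ∑ a, f a = f 0 + (Fintype.card X - 1) * d :=
  sum_ne_zero_split 0 f d h

theorem sum_all {X : Type*} [Fintype X] (f : X → ℕ) (d : ℕ) (h : ∀ a, f a = d) :
    ∑ a, f a = Fintype.card X * d := by
  rw [Finset.sum_congr rfl fun a _ => h a, Finset.sum_const, Finset.card_univ, smul_eq_mul]

theorem sub_one_add : Fintype.card F - 1 + 1 = Fintype.card F := Nat.sub_add_cancel Fintype.card_pos

variable (hν : ν ≠ 1) (h3 : (3 : F) = 0)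
include hν h3

/-- Slices with `v ≠ 0` and `a ≠ 0`. -/
theorem n4_av {a v : F} (ha : a ≠ 0) (hv : v ≠ 0) (b : F) :
    n4 ρ ν a 0 b v = n4 ρ ν 0 1 0 1 := by
  classical
  obtain ⟨e, he, h⟩ := (cj_na (F := F) 8 9 (by decide)).map2 (ρ := ρ) (ν := ν)
  obtain ⟨e', he', h'⟩ := (cj_na (F := F) 11 11 (by decide)).map2 (ρ := ρ) (ν := ν)
  have hd : finrank ℂ (Eg ρ ν 8 a ⊓ Eg ρ ν 11 v : Submodule ℂ M) =
      finrank ℂ (Eg ρ ν 9 (e * a) ⊓ Eg ρ ν 11 (e' * v) : Submodule ℂ M) :=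
    dim_eq na (fun z hz => ⟨(h a).1 z hz.1, (h' v).1 z hz.2⟩)
      fun z hz => ⟨(h a).2 z hz.1, (h' v).2 z hz.2⟩
  rw [split_8_11 hν h3, split_9_11 hν h3,
    sum_all (fun b' => ∑ a', n4 ρ ν a' (e * a) b' (e' * v)) (Fintype.card F * n4 ρ ν 0 1 0 1)
      (fun b' => sum_all _ _ fun a' => n4_generic h3 (mul_ne_zero he ha) (mul_ne_zero he' hv) a' b'),
    sum_split_zero (fun s => ∑ b', n4 ρ ν a s b' v) (Fintype.card F * n4 ρ ν 0 1 0 1)
      (fun s hs => sum_all _ _ fun b' => n4_generic h3 hs hv a b'),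
    sum_all (fun b' => n4 ρ ν a 0 b' v) (n4 ρ ν a 0 0 v) (fun b' => n4_b hv a 0 b')] at hd
  rw [n4_b hv]
  refine Nat.eq_of_mul_eq_mul_left (Fintype.card_pos (α := F)) ?_
  have e1 := sub_one_add (F := F)
  generalize Fintype.card F - 1 = j at hd e1
  rw [← e1] at hd ⊢
  linarith

/-- Slices with `v = 0`, `s ≠ 0` and `b ≠ 0`. -/
theorem n4_sb {s b : F} (hs : s ≠ 0) (hb : b ≠ 0) (a : F) :
    n4 ρ ν a s b 0 = n4 ρ ν 0 1 0 1 := by
  classical
  obtain ⟨e, he, h⟩ := (cj_nb (F := F) 9 9 (by decide)).map2 (ρ := ρ) (ν := ν)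
  obtain ⟨e', he', h'⟩ := (cj_nb (F := F) 10 11 (by decide)).map2 (ρ := ρ) (ν := ν)
  have hd : finrank ℂ (Eg ρ ν 9 s ⊓ Eg ρ ν 10 b : Submodule ℂ M) =
      finrank ℂ (Eg ρ ν 9 (e * s) ⊓ Eg ρ ν 11 (e' * b) : Submodule ℂ M) :=
    dim_eq nb (fun z hz => ⟨(h s).1 z hz.1, (h' b).1 z hz.2⟩)
      fun z hz => ⟨(h s).2 z hz.1, (h' b).2 z hz.2⟩
  rw [split_9_10 hν h3, split_9_11 hν h3,
    sum_all (fun b' => ∑ a', n4 ρ ν a' (e * s) b' (e' * b)) (Fintype.card F * n4 ρ ν 0 1 0 1)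
      (fun b' => sum_all _ _ fun a' => n4_generic h3 (mul_ne_zero he hs) (mul_ne_zero he' hb) a' b'),
    sum_split_zero (fun v => ∑ a', n4 ρ ν a' s b v) (Fintype.card F * n4 ρ ν 0 1 0 1)
      (fun v hv => sum_all _ _ fun a' => n4_generic h3 hs hv a' b),
    sum_all (fun a' => n4 ρ ν a' s b 0) (n4 ρ ν 0 s b 0) (fun a' => n4_a h3 hs a' b 0)] at hd
  rw [n4_a h3 hs]
  refine Nat.eq_of_mul_eq_mul_left (Fintype.card_pos (α := F)) ?_
  have e1 := sub_one_add (F := F)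
  generalize Fintype.card F - 1 = j at hd e1
  rw [← e1] at hd ⊢
  linarith

/-- The slices with a fixed non-trivial 11 and a fixed 10. -/
theorem sum_sv {v : F} (hv : v ≠ 0) (b : F) : (∑ s : F, ∑ a : F, n4 ρ ν a s b v) =
    (Fintype.card F - 1) * (Fintype.card F * n4 ρ ν 0 1 0 1) +
      (n4 ρ ν 0 0 0 1 + (Fintype.card F - 1) * n4 ρ ν 0 1 0 1) := by
  classical
  rw [sum_split_zero (fun s => ∑ a, n4 ρ ν a s b v) (Fintype.card F * n4 ρ ν 0 1 0 1)
      (fun s hs => sum_all _ _ fun a => n4_generic h3 hs hv a b),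
    sum_split_zero (fun a => n4 ρ ν a 0 b v) (n4 ρ ν 0 1 0 1) (fun a ha => n4_av hν h3 ha hv b),
    n4_v hv b, add_comm]

theorem dim_E11_four {v : F} (hv : v ≠ 0) : finrank ℂ (Eg ρ ν 11 v) =
    Fintype.card F * ((Fintype.card F - 1) * (Fintype.card F * n4 ρ ν 0 1 0 1) +
      (n4 ρ ν 0 0 0 1 + (Fintype.card F - 1) * n4 ρ ν 0 1 0 1)) := by
  rw [split_E11 hν h3]
  exact sum_all _ _ fun b => sum_sv hν h3 hv b

theorem dim_E9_four {s : F} (hs : s ≠ 0) : finrank ℂ (Eg ρ ν 9 s) =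
    (Fintype.card F - 1) * (Fintype.card F * (Fintype.card F * n4 ρ ν 0 1 0 1)) +
      ((Fintype.card F - 1) * (Fintype.card F * n4 ρ ν 0 1 0 1) +
        Fintype.card F * n4 ρ ν 0 1 0 0) := by
  classical
  rw [sum_split hν 11 (Eg ρ ν 9 s) fun t z hz => map_comm (by decide) t hz,
    Finset.sum_congr rfl fun v _ => split_9_11 hν h3 s v,
    sum_split_zero (fun v => ∑ b, ∑ a, n4 ρ ν a s b v) (Fintype.card F * (Fintype.card F * n4 ρ ν 0 1 0 1))
      (fun v hv => sum_all _ _ fun b => sum_all _ _ fun a => n4_generic h3 hs hv a b),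
    sum_split_zero (fun b => ∑ a, n4 ρ ν a s b 0) (Fintype.card F * n4 ρ ν 0 1 0 1)
      (fun b hb => sum_all _ _ fun a => n4_sb hν h3 hs hb a),
    sum_all (fun a => n4 ρ ν a s 0 0) (n4 ρ ν 0 1 0 0) (fun a => n4_s h3 hs a)]
  ring

/-- The slices with a fixed non-trivial 8. -/
theorem sum_a {a : F} (ha : a ≠ 0) :
    (∑ b : F, n4 ρ ν a 0 b 0) = (Fintype.card F - 1) * n4 ρ ν 0 1 0 1 + n4 ρ ν 0 1 0 0 := by
  classical
  obtain ⟨e, he, h⟩ := (cj_na (F := F) 8 9 (by decide)).map2 (ρ := ρ) (ν := ν)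
  have hd : finrank ℂ (Eg ρ ν 8 a) = finrank ℂ (Eg ρ ν 9 (e * a)) := dim_eq na (h a).1 (h a).2
  rw [dim_E9_four hν h3 (mul_ne_zero he ha),
    sum_split hν 11 (Eg ρ ν 8 a) fun t z hz => map_comm (by decide) t hz,
    Finset.sum_congr rfl fun v _ => split_8_11 hν h3 a v,
    sum_split_zero (fun v => ∑ s, ∑ b, n4 ρ ν a s b v) (Fintype.card F * (Fintype.card F * n4 ρ ν 0 1 0 1))
      (fun v hv => sum_all _ _ fun s => sum_all _ _ fun b => by
        by_cases hs : s = 0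
        · subst hs; exact n4_av hν h3 ha hv b
        · exact n4_generic h3 hs hv a b),
    sum_split_zero (fun s => ∑ b, n4 ρ ν a s b 0)
      (n4 ρ ν 0 1 0 0 + (Fintype.card F - 1) * n4 ρ ν 0 1 0 1)
      (fun s hs => by
        rw [sum_split_zero (fun b => n4 ρ ν a s b 0) (n4 ρ ν 0 1 0 1) (fun b hb => n4_sb hν h3 hs hb a),
          n4_s h3 hs])] at hd
  have e1 := sub_one_add (F := F)
  generalize Fintype.card F - 1 = j at hd e1 ⊢
  rw [← e1] at hd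
  linarith

/-- The slices with a fixed non-trivial 10. -/
theorem sum_b {b : F} (hb : b ≠ 0) :
    (∑ a : F, n4 ρ ν a 0 b 0) = (Fintype.card F - 1) * n4 ρ ν 0 1 0 1 + n4 ρ ν 0 0 0 1 := by
  classical
  obtain ⟨e, he, h⟩ := (cj_nb (F := F) 10 11 (by decide)).map2 (ρ := ρ) (ν := ν)
  have hd : finrank ℂ (Eg ρ ν 10 b) = finrank ℂ (Eg ρ ν 11 (e * b)) := dim_eq nb (h b).1 (h b).2
  rw [dim_E11_four hν h3 (mul_ne_zero he hb), split_E10 hν h3,
    sum_split_zero (fun v => ∑ s, ∑ a, n4 ρ ν a s b v) _ (fun v hv => sum_sv hν h3 hv b),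
    sum_split_zero (fun s => ∑ a, n4 ρ ν a s b 0) (Fintype.card F * n4 ρ ν 0 1 0 1)
      (fun s hs => sum_all _ _ fun a => n4_sb hν h3 hs hb a)] at hd
  have e1 := sub_one_add (F := F)
  generalize Fintype.card F - 1 = j at hd e1 ⊢
  rw [← e1] at hd
  linarith

/-- The dimension. -/
theorem dim_four : finrank ℂ M =
    (Fintype.card F - 1) * (Fintype.card F * ((Fintype.card F - 1) * (Fintype.card F * n4 ρ ν 0 1 0 1) +
      (n4 ρ ν 0 0 0 1 + (Fintype.card F - 1) * n4 ρ ν 0 1 0 1))) +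
    ((Fintype.card F - 1) * ((Fintype.card F - 1) * (Fintype.card F * n4 ρ ν 0 1 0 1)) +
      (Fintype.card F - 1) * (Fintype.card F * n4 ρ ν 0 1 0 0) +
      ∑ b : F, ∑ a : F, n4 ρ ν a 0 b 0) := by
  classical
  have h := sum_split (ρ := ρ) hν 11 (⊤ : Submodule ℂ M) fun _ _ _ => Submodule.mem_top
  rw [finrank_top, sum_split_zero _ _ (fun v hv => by rw [top_inf_eq]; exact dim_E11_four hν h3 hv),
    top_inf_eq, split_E11 hν h3] at h
  rw [h, add_comm (∑ b : F, ∑ s : F, ∑ a : F, n4 ρ ν a s b 0)]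
  congr 1
  have e : ∀ b : F, (∑ s : F, ∑ a : F, n4 ρ ν a s b 0) = (∑ a : F, n4 ρ ν a 0 b 0) +
      (Fintype.card F - 1) * (Fintype.card F * if b = 0 then n4 ρ ν 0 1 0 0 else n4 ρ ν 0 1 0 1) := by
    intro b
    refine sum_split_zero _ _ fun s hs => sum_all _ _ fun a => ?_
    split_ifs with hb
    · subst hb; exact n4_s h3 hs a
    · exact n4_sb hν h3 hs hb a
  rw [Finset.sum_congr rfl fun b _ => e b, Finset.sum_add_distrib, add_comm _ (∑ b : F, _),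
    sum_split_zero (fun b : F => (Fintype.card F - 1) * (Fintype.card F * if b = 0 then n4 ρ ν 0 1 0 0 else n4 ρ ν 0 1 0 1))
      ((Fintype.card F - 1) * (Fintype.card F * n4 ρ ν 0 1 0 1)) (fun b hb => by rw [if_neg hb]), if_pos rfl]
  ring

end Cfsg.Agent.Lib.G2Deg48
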