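import Cfsg.Agent.Lib.G2Deg48.FourDim
import Mathlib.GroupTheory.QuotientGroup.Basic

/-!
The action of the short simple root group on the slices with trivial 9 and 11.
-/

set_option autoImplicit false
set_option linter.unusedSectionVars false

namespace Cfsg.Agent.Lib.G2Deg48

open Module

/-- The sum of a periodic function is divisible by the order of the periods. -/
theorem dvd_of_periodic {A : Type*} [AddCommGroup A] [Fintype A] (H : AddSubgroup A) (f : A → ℕ)
    (h : ∀ t, ∀ x ∈ H, f (t + x) = f t) : Nat.card H ∣ ∑ t, f t := by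
  classical
  have : Fintype (A ⧸ H) := Fintype.ofFinite _
  have : Fintype H := Fintype.ofFinite _
  rw [← (AddSubgroup.addGroupEquivQuotientProdAddSubgroup (s := H)).symm.sum_comp f, Fintype.sum_prod_type]
  refine Finset.dvd_sum fun c _ => ⟨f c.out, ?_⟩
  rw [Nat.card_eq_fintype_card, ← smul_eq_mul, ← Finset.card_univ, ← Finset.sum_const]
  refine Finset.sum_congr rfl fun x _ => ?_
  set t := (AddSubgroup.addGroupEquivQuotientProdAddSubgroup (s := H)).symm (c, x) with ht
  have hmk : (t : A ⧸ H) = c := by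
    have := (AddSubgroup.addGroupEquivQuotientProdAddSubgroup (s := H)).apply_symm_apply (c, x)
    exact congrArg Prod.fst this
  have hmem : -c.out + t ∈ H := by
    rw [← QuotientAddGroup.eq, hmk]
    exact Quotient.out_eq c
  have := h c.out _ hmem
  rw [add_neg_cancel_left] at this
  exact this

variable {F : Type*} [Field F]

/-- The shift `u ↦ a u - b u³`. -/
def shift (h3 : (3 : F) = 0) (a b : F) : F →+ F where
  toFun u := a * u - b * u ^ 3
  map_zero' := by simp
  map_add' u v := by linear_combination (-b * (u ^ 2 * v + u * v ^ 2)) * h3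

theorem shift_apply (h3 : (3 : F) = 0) (a b u : F) : shift h3 a b u = a * u - b * u ^ 3 := rfl

variable [Fintype F]

theorem card_shift_range (h3 : (3 : F) = 0) {r : ℕ} (hr : Fintype.card F = 3 * r) {a b : F}
    (hab : a ≠ 0 ∨ b ≠ 0) : r ∣ Nat.card (shift h3 a b).range := by
  classical
  have hc := AddSubgroup.card_eq_card_quotient_mul_card_addSubgroup (shift h3 a b).ker
  rw [Nat.card_congr (QuotientAddGroup.quotientKerEquivRange (shift h3 a b)).toEquiv,
    Nat.card_eq_fintype_card (α := F), hr] at hc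
  have hker : Nat.card (shift h3 a b).ker ≤ 3 := by
    obtain ⟨u₀, hu⟩ : ∃ u₀ : F, ∀ u ∈ (shift h3 a b).ker, u = 0 ∨ u = u₀ ∨ u = -u₀ := by
      by_cases hex : ∃ u₀ ∈ (shift h3 a b).ker, u₀ ≠ 0
      · obtain ⟨u₀, hk0, h0⟩ := hex
        refine ⟨u₀, fun u hu => ?_⟩
        by_cases hu0 : u = 0
        · exact Or.inl hu0
        rw [AddMonoidHom.mem_ker, shift_apply] at hk0 hu
        have e1 : a - b * u ^ 2 = 0 :=
          (mul_eq_zero.1 (by linear_combination hu : u * (a - b * u ^ 2) = 0)).resolve_left hu0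
        have e2 : a - b * u₀ ^ 2 = 0 :=
          (mul_eq_zero.1 (by linear_combination hk0 : u₀ * (a - b * u₀ ^ 2) = 0)).resolve_left h0
        have hb : b ≠ 0 := by
          rintro rfl
          rcases hab with h | h
          · exact h (by linear_combination e1)
          · exact h rfl
        have e3 : (u - u₀) * (u + u₀) = 0 :=
          (mul_eq_zero.1 (by linear_combination e2 - e1 : b * ((u - u₀) * (u + u₀)) = 0)).resolve_left hb
        rcases mul_eq_zero.1 e3 with h | h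
        · exact Or.inr (Or.inl (sub_eq_zero.1 h))
        · exact Or.inr (Or.inr (eq_neg_of_add_eq_zero_left h))
      · push Not at hex
        exact ⟨0, fun u hu => Or.inl (hex u hu)⟩
    have hsub : ((shift h3 a b).ker : Set F) ⊆ ↑({0, u₀, -u₀} : Finset F) := fun u h => by
      simpa using hu u h
    refine (Nat.card_mono (Finset.finite_toSet _) hsub).trans ?_
    rw [Nat.card_coe_set_eq, Set.ncard_coe_finset]
    exact Finset.card_le_three
  have hpos : 0 < Nat.card (shift h3 a b).ker := Nat.card_pos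
  have hodd : ¬ (2 : ℕ) ∣ 3 * r := by
    obtain ⟨p, hp⟩ := CharP.exists F
    have : Fact p.Prime := ⟨CharP.char_is_prime F p⟩
    have hp3 : p = 3 := (Nat.prime_dvd_prime_iff_eq Fact.out Nat.prime_three).1
      ((CharP.cast_eq_zero_iff F p 3).1 (by exact_mod_cast h3))
    subst hp3
    obtain ⟨n, -, hn⟩ := FiniteField.card F 3
    rw [← hr, hn]
    intro h
    exact absurd (Nat.prime_two.dvd_of_dvd_pow h) (by norm_num)
  generalize Nat.card (shift h3 a b).range = R at hc ⊢
  generalize Nat.card (shift h3 a b).ker = K at hc hker hpos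
  interval_cases K
  · exact ⟨3, by omega⟩
  · exact absurd ⟨R, by omega⟩ hodd
  · exact ⟨1, by omega⟩

variable {M : Type*} [AddCommGroup M] [Module ℂ M] [FiniteDimensional ℂ M]
variable {ρ : Representation ℂ (Gr F) M} {ν : AddChar F ℂ}

theorem x7_E6 {a b c : F} {z : M} (ha : z ∈ Eg ρ ν 8 a) (hs : z ∈ Eg ρ ν 9 0) (hb : z ∈ Eg ρ ν 10 b)
    (hv : z ∈ Eg ρ ν 11 0) (hc : z ∈ Eg ρ ν 6 c) (u : F) :
    ρ (xe 7 u) z ∈ Eg ρ ν 6 (c + (a * u - b * u ^ 3)) := by
  refine mem_Eg.2 fun t => ?_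
  rw [← Module.End.mul_apply, ← map_mul, rel_7_6]
  simp only [map_mul, Module.End.mul_apply, xe_Eg_zero hv, map_smul, xe_Eg hb, xe_Eg_zero hs, xe_Eg ha,
    xe_Eg hc, smul_smul, ← AddChar.map_add_eq_mul]
  congr 2
  ring

theorem x6_P4_stable {a b : F} (u : F) {z : M} (hz : z ∈ P4 ρ ν a 0 b 0) :
    ρ (xe 6 u) z ∈ P4 ρ ν a 0 b 0 := by
  have := map6_P4 hz u
  rwa [mul_zero, sub_zero] at this

theorem x7_P4_stable (h3 : (3 : F) = 0) {a b : F} (u : F) {z : M} (hz : z ∈ P4 ρ ν a 0 b 0) :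
    ρ (xe 7 u) z ∈ P4 ρ ν a 0 b 0 := by
  have := map7_P4 h3 hz u
  rwa [mul_zero, add_zero] at this

/-- The pieces of 6 in such a slice are permuted by the shift. -/
theorem dim_shift (h3 : (3 : F) = 0) (a b c u : F) :
    finrank ℂ (P4 ρ ν a 0 b 0 ⊓ Eg ρ ν 6 c : Submodule ℂ M) =
      finrank ℂ (P4 ρ ν a 0 b 0 ⊓ Eg ρ ν 6 (c + (a * u - b * u ^ 3)) : Submodule ℂ M) := by
  have key : ∀ (c u : F), ∀ z ∈ (P4 ρ ν a 0 b 0 ⊓ Eg ρ ν 6 c : Submodule ℂ M),
      ρ (xe 7 u) z ∈ (P4 ρ ν a 0 b 0 ⊓ Eg ρ ν 6 (c + (a * u - b * u ^ 3)) : Submodule ℂ M) := by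
    rintro c u z ⟨hz, hc⟩
    obtain ⟨h8, h9, h10, h11⟩ := mem_P4.1 hz
    exact ⟨x7_P4_stable h3 u hz, x7_E6 h8 h9 h10 h11 hc u⟩
  refine dim_eq (xe 7 u) (key c u) fun z hz => ?_
  rw [xe_inv]
  have := key _ (-u) z hz
  rwa [show c + (a * u - b * u ^ 3) + (a * -u - b * (-u) ^ 3) = c by ring] at this

variable (hν : ν ≠ 1)
include hν

/-- Such slices have dimension divisible by `q/3`. -/
theorem n4_dvd (h3 : (3 : F) = 0) {r : ℕ} (hr : Fintype.card F = 3 * r) {a b : F}
    (hab : a ≠ 0 ∨ b ≠ 0) : r ∣ n4 ρ ν a 0 b 0 := by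
  rw [n4, sum_split hν 6 (P4 ρ ν a 0 b 0) fun u z hz => x6_P4_stable u hz]
  refine (card_shift_range h3 hr hab).trans (dvd_of_periodic _ _ ?_)
  rintro t _ ⟨u, rfl⟩
  exact (dim_shift h3 a b t u).symm

end Cfsg.Agent.Lib.G2Deg48
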