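import Cfsg.Agent.Lib.G2Deg48.Eigen

/-!
The eigenspaces of the root groups 11, 9, 10 when 3 is invertible.
-/

set_option autoImplicit false
set_option linter.unusedSectionVars false

namespace Cfsg.Agent.Lib.G2Deg48

open Module

variable {F : Type*} [Field F] [Fintype F]
variable {M : Type*} [AddCommGroup M] [Module ℂ M]
variable {ρ : Representation ℂ (Gr F) M} {ν : AddChar F ℂ}

local notation "E" => Eg ρ ν

variable (ρ ν) in
/-- A common eigenspace of 11, 9 and 10. -/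
noncomputable def P3 (v c b : F) : Submodule ℂ M := Eg ρ ν 11 v ⊓ Eg ρ ν 9 c ⊓ Eg ρ ν 10 b

theorem mem_P3 {v c b : F} {z : M} : z ∈ P3 ρ ν v c b ↔ z ∈ E 11 v ∧ z ∈ E 9 c ∧ z ∈ E 10 b := by
  simp only [P3, Submodule.mem_inf, and_assoc]

theorem x8_E9 {v c : F} {z : M} (hv : z ∈ E 11 v) (hc : z ∈ E 9 c) (u : F) :
    ρ (xe 8 u) z ∈ E 9 (c - 3 * u * v) := by
  refine mem_Eg.2 fun s => ?_
  rw [← Module.End.mul_apply, ← map_mul, rel_8_9, map_mul, map_mul, Module.End.mul_apply,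
    Module.End.mul_apply, xe_Eg hv, map_smul, xe_Eg hc, smul_smul, ← AddChar.map_add_eq_mul, map_smul]
  congr 2
  ring

theorem x6_E10 {v b : F} {z : M} (hv : z ∈ E 11 v) (hb : z ∈ E 10 b) (u : F) :
    ρ (xe 6 u) z ∈ E 10 (b - u * v) := by
  refine mem_Eg.2 fun s => ?_
  rw [← Module.End.mul_apply, ← map_mul, rel_6_10, map_mul, map_mul, Module.End.mul_apply,
    Module.End.mul_apply, xe_Eg hv, map_smul, xe_Eg hb, smul_smul, ← AddChar.map_add_eq_mul, map_smul]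
  congr 2
  ring

theorem x7_E9 {b c : F} {z : M} (hb : z ∈ E 10 b) (hc : z ∈ E 9 c) (u : F) :
    ρ (xe 7 u) z ∈ E 9 (c - 3 * u * b) := by
  refine mem_Eg.2 fun s => ?_
  rw [← Module.End.mul_apply, ← map_mul, rel_7_9, map_mul, map_mul, Module.End.mul_apply,
    Module.End.mul_apply, xe_Eg hb, map_smul, xe_Eg hc, smul_smul, ← AddChar.map_add_eq_mul, map_smul]
  congr 2
  ring

theorem map8_P3 {v c b : F} {z : M} (h : z ∈ P3 ρ ν v c b) (u : F) :
    ρ (xe 8 u) z ∈ P3 ρ ν v (c - 3 * u * v) b := by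
  obtain ⟨h1, h2, h3⟩ := mem_P3.1 h
  exact mem_P3.2 ⟨map_comm (by decide) u h1, x8_E9 h1 h2 u, map_comm (by decide) u h3⟩

theorem map6_P3 {v c b : F} {z : M} (h : z ∈ P3 ρ ν v c b) (u : F) :
    ρ (xe 6 u) z ∈ P3 ρ ν v c (b - u * v) := by
  obtain ⟨h1, h2, h3⟩ := mem_P3.1 h
  exact mem_P3.2 ⟨map_comm (by decide) u h1, map_comm (by decide) u h2, x6_E10 h1 h3 u⟩

theorem map7_P3 {v c b : F} {z : M} (h : z ∈ P3 ρ ν v c b) (u : F) :
    ρ (xe 7 u) z ∈ P3 ρ ν v (c - 3 * u * b) b := by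
  obtain ⟨h1, h2, h3⟩ := mem_P3.1 h
  exact mem_P3.2 ⟨map_comm (by decide) u h1, x7_E9 h3 h2 u, map_comm (by decide) u h3⟩

theorem mapT_P3 {v c b : F} {z : M} (h : z ∈ P3 ρ ν v c b) (x y : Fˣ) :
    ρ (tt x y) z ∈ P3 ρ ν (((y⁻¹ : Fˣ) : F) * v) (((x⁻¹ : Fˣ) : F) * c)
      (((x ^ 3 * y⁻¹)⁻¹ : Fˣ) * b) := by
  obtain ⟨h1, h2, h3⟩ := mem_P3.1 h
  refine mem_P3.2 ⟨?_, ?_, ?_⟩
  · simpa [ch11] using map_tt x y h1
  · simpa [ch9] using map_tt x y h2
  · simpa [ch10] using map_tt x y h3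

variable [FiniteDimensional ℂ M]

theorem dim8_P3 (v c b u : F) :
    finrank ℂ (P3 ρ ν v c b) = finrank ℂ (P3 ρ ν v (c - 3 * u * v) b) := by
  refine dim_eq (xe 8 u) (fun z hz => map8_P3 hz u) fun z hz => ?_
  rw [xe_inv]
  have := map8_P3 hz (-u)
  rwa [show c - 3 * u * v - 3 * -u * v = c by ring] at this

theorem dim6_P3 (v c b u : F) :
    finrank ℂ (P3 ρ ν v c b) = finrank ℂ (P3 ρ ν v c (b - u * v)) := by
  refine dim_eq (xe 6 u) (fun z hz => map6_P3 hz u) fun z hz => ?_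
  rw [xe_inv]
  have := map6_P3 hz (-u)
  rwa [show b - u * v - -u * v = b by ring] at this

theorem dim7_P3 (v c b u : F) :
    finrank ℂ (P3 ρ ν v c b) = finrank ℂ (P3 ρ ν v (c - 3 * u * b) b) := by
  refine dim_eq (xe 7 u) (fun z hz => map7_P3 hz u) fun z hz => ?_
  rw [xe_inv]
  have := map7_P3 hz (-u)
  rwa [show c - 3 * u * b - 3 * -u * b = c by ring] at this

theorem dimT_P3 (v c b : F) (x y : Fˣ) :
    finrank ℂ (P3 ρ ν v c b) = finrank ℂ (P3 ρ ν (((y⁻¹ : Fˣ) : F) * v) (((x⁻¹ : Fˣ) : F) * c)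
      (((x ^ 3 * y⁻¹)⁻¹ : Fˣ) * b)) := by
  refine dim_eq (tt x y) (fun z hz => mapT_P3 hz x y) fun z hz => ?_
  rw [tt_inv]
  have := mapT_P3 hz x⁻¹ y⁻¹
  simp only [← mul_assoc, ← Units.val_mul] at this
  rw [show (x⁻¹)⁻¹ * x⁻¹ = 1 from inv_mul_cancel _, show (y⁻¹)⁻¹ * y⁻¹ = 1 from inv_mul_cancel _,
    show (x⁻¹ ^ 3 * (y⁻¹)⁻¹)⁻¹ * (x ^ 3 * y⁻¹)⁻¹ = 1 by
      rw [inv_pow, ← mul_inv (x ^ 3) y⁻¹, inv_inv, mul_inv_cancel]] at this
  simpa using this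

/-- All common eigenspaces with non-trivial centre have the same dimension. -/
theorem dim_P3_eq (h3 : (3 : F) ≠ 0) {v : F} (hv : v ≠ 0) (c b : F) :
    finrank ℂ (P3 ρ ν v c b) = finrank ℂ (P3 ρ ν 1 0 0) := by
  rw [dim8_P3 v c b (c / (3 * v)), show c - 3 * (c / (3 * v)) * v = 0 by field_simp; ring,
    dim6_P3 v 0 b (b / v), div_mul_cancel₀ b hv, sub_self, dimT_P3 v 0 0 1 (Units.mk0 v hv),
    mul_zero, mul_zero, Units.val_inv_eq_inv_val, Units.val_mk0, inv_mul_cancel₀ hv]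

/-- The slices with trivial centre and a fixed non-trivial 10 all have the same dimension. -/
theorem dim_P3_low (h3 : (3 : F) ≠ 0) {b : F} (hb : b ≠ 0) (c : F) :
    finrank ℂ (P3 ρ ν 0 c b) = finrank ℂ (P3 ρ ν 0 0 b) := by
  rw [dim7_P3 0 c b (c / (3 * b)), show c - 3 * (c / (3 * b)) * b = 0 by field_simp; ring]

variable (hν : ν ≠ 1)
include hν

theorem split_11_10 (h3 : (3 : F) ≠ 0) {v : F} (hv : v ≠ 0) (b : F) :
    finrank ℂ (E 11 v ⊓ E 10 b : Submodule ℂ M) =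
      Fintype.card F * finrank ℂ (P3 ρ ν 1 0 0) := by
  rw [sum_split hν 9 (E 11 v ⊓ E 10 b) fun s z hz => ⟨map_comm (by decide) s hz.1, map_comm (by decide) s hz.2⟩,
    Finset.sum_congr rfl fun c _ =>
      (show finrank ℂ (E 11 v ⊓ E 10 b ⊓ E 9 c : Submodule ℂ M) = finrank ℂ (P3 ρ ν 1 0 0) by
        rw [inf_right_comm]; exact dim_P3_eq h3 hv c b),
    Finset.sum_const, Finset.card_univ, smul_eq_mul]

theorem dim_E11 (h3 : (3 : F) ≠ 0) {v : F} (hv : v ≠ 0) :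
    finrank ℂ (E 11 v) = Fintype.card F ^ 2 * finrank ℂ (P3 ρ ν 1 0 0) := by
  rw [sum_split hν 10 (E 11 v) fun s z hz => map_comm (by decide) s hz,
    Finset.sum_congr rfl fun b _ => split_11_10 hν h3 hv b, Finset.sum_const, Finset.card_univ,
    smul_eq_mul, sq, mul_assoc]

theorem dim_E10 (h3 : (3 : F) ≠ 0) {b : F} (hb : b ≠ 0) :
    finrank ℂ (E 10 b) = Fintype.card F ^ 2 * finrank ℂ (P3 ρ ν 1 0 0) := by
  obtain ⟨e, he, h⟩ := (cj_nb (F := F) 10 11 (by decide)).map2 (ρ := ρ) (ν := ν)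
  rw [dim_eq nb (h b).1 (h b).2, dim_E11 hν h3 (mul_ne_zero he hb)]

omit hν

theorem sum_ne_zero_split {X : Type*} [Fintype X] [DecidableEq X] (o : X) (f : X → ℕ) (d : ℕ)
    (h : ∀ a, a ≠ o → f a = d) : ∑ a, f a = f o + (Fintype.card X - 1) * d := by
  rw [← Finset.add_sum_erase _ f (Finset.mem_univ o), Finset.sum_congr rfl fun a ha =>
    h a (Finset.ne_of_mem_erase ha), Finset.sum_const, Finset.card_erase_of_mem (Finset.mem_univ o),
    Finset.card_univ, smul_eq_mul]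

include hν

theorem dim_W (h3 : (3 : F) ≠ 0) {b : F} (hb : b ≠ 0) :
    finrank ℂ (E 11 0 ⊓ E 10 b : Submodule ℂ M) = Fintype.card F * finrank ℂ (P3 ρ ν 1 0 0) := by
  classical
  have h := sum_split hν 11 (E 10 b) fun s z hz => map_comm (by decide) s hz
  rw [dim_E10 hν h3 hb, sum_ne_zero_split (0 : F) _ (Fintype.card F * finrank ℂ (P3 ρ ν 1 0 0))
    (fun v hv => by rw [inf_comm]; exact split_11_10 hν h3 hv b), inf_comm] at h
  have hq : 1 ≤ Fintype.card F := Fintype.card_pos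
  obtain ⟨j, hj⟩ : ∃ j, Fintype.card F = j + 1 := ⟨_, (Nat.sub_add_cancel hq).symm⟩
  rw [hj] at h ⊢
  simp only [Nat.add_sub_cancel] at h
  nlinarith

theorem dim_slice (h3 : (3 : F) ≠ 0) {b : F} (hb : b ≠ 0) (c : F) :
    finrank ℂ (P3 ρ ν 0 c b) = finrank ℂ (P3 ρ ν 1 0 0) := by
  have h := dim_W hν h3 hb (ρ := ρ)
  rw [sum_split hν 9 (E 11 0 ⊓ E 10 b) fun s z hz => ⟨map_comm (by decide) s hz.1, map_comm (by decide) s hz.2⟩,
    Finset.sum_congr rfl fun c' _ =>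
      (show finrank ℂ (E 11 0 ⊓ E 10 b ⊓ E 9 c' : Submodule ℂ M) = finrank ℂ (P3 ρ ν 0 0 b) by
        rw [inf_right_comm]; exact dim_P3_low h3 hb c'),
    Finset.sum_const, Finset.card_univ, smul_eq_mul] at h
  rw [dim_P3_low h3 hb c]
  exact Nat.eq_of_mul_eq_mul_left Fintype.card_pos h

/-- The dimension in terms of the common dimension and the fixed space of 11 and 10. -/
theorem dim_total (h3 : (3 : F) ≠ 0) :
    finrank ℂ M = (Fintype.card F - 1) * (Fintype.card F ^ 2 * finrank ℂ (P3 ρ ν 1 0 0)) +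
      (Fintype.card F - 1) * (Fintype.card F * finrank ℂ (P3 ρ ν 1 0 0)) +
      finrank ℂ (E 11 0 ⊓ E 10 0 : Submodule ℂ M) := by
  classical
  have h := sum_split (ρ := ρ) hν 11 (⊤ : Submodule ℂ M) fun _ _ _ => Submodule.mem_top
  rw [finrank_top, sum_ne_zero_split (0 : F) _ (Fintype.card F ^ 2 * finrank ℂ (P3 ρ ν 1 0 0))
    (fun v hv => by rw [top_inf_eq]; exact dim_E11 hν h3 hv), top_inf_eq] at h
  rw [sum_split hν 10 (E 11 0) (fun s z hz => map_comm (by decide) s hz),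
    sum_ne_zero_split (0 : F) _ (Fintype.card F * finrank ℂ (P3 ρ ν 1 0 0))
      (fun b hb => dim_W hν h3 hb)] at h
  rw [h]
  ring

end Cfsg.Agent.Lib.G2Deg48
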