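import Cfsg.Agent.Lib.G2Deg48.ThreeLow
import Cfsg.Agent.Lib.G2Deg48.EigTools

/-!
The character value at an element of order three of the torus.
-/

set_option autoImplicit false
set_option linter.unusedSectionVars false
set_option maxHeartbeats 100000

namespace Cfsg.Agent.Lib.G2Deg48

open Cfsg.Lie Module Cfsg.Agent.Lib.UniDeg48 Cfsg.Agent.Lib.MinDegree

variable {F : Type*} [Field F]

/-- The abelian group generated by the root groups 11, 9 and 6. -/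
noncomputable def q6 : Multiplicative (F × F × F) →* Gr F :=
  MonoidHom.mk' (fun p => xe 11 p.toAdd.1 * (xe 9 p.toAdd.2.1 * xe 6 p.toAdd.2.2)) fun p p' => by
    have c1 : ∀ a b : F, Commute (xe 11 a) (xe 9 b) := fun a b => comm_xe 11 9 (by decide) a b
    have c2 : ∀ a b : F, Commute (xe 11 a) (xe 6 b) := fun a b => comm_xe 11 6 (by decide) a b
    have c3 : ∀ a b : F, Commute (xe 9 a) (xe 6 b) := fun a b => comm_xe 9 6 (by decide) a b
    simp only [toAdd_mul, Prod.fst_add, Prod.snd_add]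
    rw [← xe_add, ← xe_add, ← xe_add, (c3 p'.toAdd.2.1 p.toAdd.2.2).mul_mul_mul_comm,
      ((c1 p'.toAdd.1 p.toAdd.2.1).mul_right (c2 p'.toAdd.1 p.toAdd.2.2)).mul_mul_mul_comm]

/-- A character of the group of three root groups. -/
noncomputable def c6 (ν : AddChar F ℂ) (v : F × F × F) : AddChar (F × F × F) ℂ where
  toFun p := ν (v.1 * p.1 + v.2.1 * p.2.1 + v.2.2 * p.2.2)
  map_zero_eq_one' := by simp
  map_add_eq_mul' p p' := by
    simp only [Prod.fst_add, Prod.snd_add]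
    rw [← AddChar.map_add_eq_mul]
    congr 1
    ring

theorem c6_apply (ν : AddChar F ℂ) (v p : F × F × F) :
    c6 ν v p = ν (v.1 * p.1 + v.2.1 * p.2.1 + v.2.2 * p.2.2) := rfl

theorem q6_first (s : F) : q6 (Multiplicative.ofAdd (s, (0 : F), (0 : F))) = xe 11 s := by
  simp [q6, xe_zero]

theorem q6_mid (s : F) : q6 (Multiplicative.ofAdd ((0 : F), s, (0 : F))) = xe 9 s := by
  simp [q6, xe_zero]

theorem q6_last (s : F) : q6 (Multiplicative.ofAdd ((0 : F), (0 : F), s)) = xe 6 s := by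
  simp [q6, xe_zero]

variable [Fintype F]
variable {M : Type*} [AddCommGroup M] [Module ℂ M] [FiniteDimensional ℂ M]
variable {ρ : Representation ℂ (Gr F) M} {ν : AddChar F ℂ}

local notation "E" => Eg ρ ν

theorem mem_q6 (v c t : F) {z : M} :
    z ∈ eigSub ρ q6 (c6 ν (v, c, t)) ↔ z ∈ E 11 v ∧ z ∈ E 9 c ∧ z ∈ E 6 t := by
  rw [mem_eigSub]
  constructor
  · intro h
    refine ⟨mem_Eg.2 fun s => ?_, mem_Eg.2 fun s => ?_, mem_Eg.2 fun s => ?_⟩
    · simpa [q6_first, c6_apply] using h (s, 0, 0)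
    · simpa [q6_mid, c6_apply] using h (0, s, 0)
    · simpa [q6_last, c6_apply] using h (0, 0, s)
  · rintro ⟨h1, h2, h3⟩ ⟨a, b, d⟩
    show ρ (xe 11 a * (xe 9 b * xe 6 d)) z = ν (v * a + c * b + t * d) • z
    rw [map_mul, map_mul, Module.End.mul_apply, Module.End.mul_apply, xe_Eg h3, map_smul, xe_Eg h2,
      map_smul, map_smul, xe_Eg h1, smul_smul, smul_smul, ← AddChar.map_add_eq_mul, ← AddChar.map_add_eq_mul]
    congr 2
    ring

theorem c6_bij (hν : ν ≠ 1) : Function.Bijective (c6 ν : F × F × F → AddChar (F × F × F) ℂ) := by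
  classical
  rw [Fintype.bijective_iff_injective_and_card, AddChar.card_eq]
  refine ⟨fun v v' h => ?_, rfl⟩
  have e : ∀ p : F × F × F, c6 ν v p = c6 ν v' p := fun p => by rw [h]
  have i := (mulShift_bij hν).1
  refine Prod.ext (i ?_) (Prod.ext (i ?_) (i ?_)) <;> ext s
  · simpa [c6_apply] using e (s, 0, 0)
  · simpa [c6_apply] using e (0, s, 0)
  · simpa [c6_apply] using e (0, 0, s)

variable (F) in
/-- The torus element of order three. -/
noncomputable def hh (ω : Fˣ) : Gr F := tt ω 1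

section Three

variable {ω : Fˣ} (hω : ω ^ 3 = 1)
include hω

theorem hh_pow : hh F ω ^ 3 = 1 := by
  rw [hh, pow_succ (tt ω 1) 2, sq, tt_mul, tt_mul, mul_one, one_mul, ← sq, ← pow_succ, hω, tt_one]

theorem hh_xe6 (s : F) : Commute (hh F ω) (xe 6 s) := by
  show tt ω 1 * xe 6 s = xe 6 s * tt ω 1
  rw [tt_xe, ch6, inv_pow, hω, inv_one, one_pow, one_mul, Units.val_one, one_mul]

theorem hh_xe10 (s : F) : Commute (hh F ω) (xe 10 s) := by
  show tt ω 1 * xe 10 s = xe 10 s * tt ω 1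
  rw [tt_xe, ch10, hω, inv_one, one_mul, Units.val_one, one_mul]

theorem hh_xe11 (s : F) : Commute (hh F ω) (xe 11 s) := by
  show tt ω 1 * xe 11 s = xe 11 s * tt ω 1
  rw [tt_xe, ch11, Units.val_one, one_mul]

theorem hh_nb : Commute (hh F ω) nb := by
  apply Subtype.ext
  show G2Gauss.T ω 1 * G2Gauss.nn 6 = G2Gauss.nn 6 * G2Gauss.T ω 1
  have e : G2Gauss.chi 6 ω 1 = 1 := by
    rw [show G2Gauss.chi 6 ω 1 = ch 6 ω 1 from rfl, ch6, inv_pow, hω, inv_one, one_pow, mul_one]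
  rw [G2Gauss.nn_T, e, inv_one, one_zpow, one_zpow, G2Gauss.T_one, one_mul]

theorem hh_na : hh F ω * na = na * (hh F ω)⁻¹ := by
  apply Subtype.ext
  show G2Gauss.T ω 1 * G2Gauss.nn 7 = G2Gauss.nn 7 * (G2Gauss.T ω 1)⁻¹
  have e : G2Gauss.chi 7 ω⁻¹ 1 = ω := by
    rw [show G2Gauss.chi 7 ω⁻¹ 1 = ch 7 ω⁻¹ 1 from rfl, ch7, inv_one, mul_one, inv_pow]
    exact inv_eq_of_mul_eq_one_left (by rw [← pow_succ' ω 2, hω])
  rw [G2Gauss.T_inv, inv_one, G2Gauss.nn_T, e, show ChevStructure.co chevG2 (G2Gauss.rt 7) G2Gauss.i0 = 1 by decide,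
    show ChevStructure.co chevG2 (G2Gauss.rt 7) G2Gauss.i1 = 0 by decide, zpow_one, zpow_zero, G2Gauss.T_mul, mul_one]
  congr 2
  rw [← mul_inv, ← sq]
  exact (inv_eq_of_mul_eq_one_left (by rw [← pow_succ' ω 2, hω])).symm

theorem hh_inv_na : (hh F ω)⁻¹ * na = na * hh F ω := by
  calc (hh F ω)⁻¹ * na = (hh F ω)⁻¹ * (na * (hh F ω)⁻¹) * hh F ω := by group
    _ = _ := by rw [← hh_na hω]; group

/-- The element exchanging 11 and 6 commutes with the element of order three. -/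
theorem hh_g : Commute (hh F ω) (na * nb * na) := by
  have hb := (hh_nb hω).inv_left.eq
  calc hh F ω * (na * nb * na) = hh F ω * na * nb * na := by group
    _ = na * ((hh F ω)⁻¹ * nb) * na := by rw [hh_na hω]; group
    _ = na * nb * ((hh F ω)⁻¹ * na) := by rw [hb]; group
    _ = _ := by rw [hh_inv_na hω]; group

end Three

theorem rep_comm {g g' : Gr F} (h : Commute g g') (z : M) : ρ g (ρ g' z) = ρ g' (ρ g z) := by
  rw [← Module.End.mul_apply, ← map_mul, h.eq, map_mul, Module.End.mul_apply]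

theorem rep_flip {g g' u : Gr F} (h : g * u = u * g') (z : M) : ρ g (ρ u z) = ρ u (ρ g' z) := by
  rw [← Module.End.mul_apply, ← map_mul, h, map_mul, Module.End.mul_apply]

theorem rep_inv_smul {g : Gr F} {e : ℂ} {z : M} (h : ρ g z = e • z) (he : e ≠ 0) :
    ρ g⁻¹ z = e⁻¹ • z := by
  have h1 : ρ g⁻¹ (ρ g z) = z := by
    rw [← Module.End.mul_apply, ← map_mul, inv_mul_cancel, map_one, Module.End.one_apply]
  rw [h, map_smul] at h1
  rw [eq_inv_smul_iff₀ he, h1]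

theorem cj_mul {g g' : Gr F} {n m l : Fin 12} (h : Cj g m l) (h' : Cj g' n m) : Cj (g * g') n l := by
  obtain ⟨e, he, h⟩ := h
  obtain ⟨e', he', h'⟩ := h'
  refine ⟨e * e', mul_ne_zero he he', fun s => ?_⟩
  rw [mul_assoc, h', ← mul_assoc, h, mul_assoc, mul_assoc e]

variable (hν : ν ≠ 1) (h3 : (3 : F) ≠ 0) (hF : 5 ≤ Fintype.card F)
  (hm : finrank ℂ (P3 ρ ν 1 0 0) = 1)
  (hn : finrank ℂ (↥(Eg ρ ν 11 0 ⊓ Eg ρ ν 10 0 ⊓ Eg ρ ν 6 1)) = 1)
  {ω : Fˣ} (hω : ω ^ 3 = 1)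
include hν h3 hF hm hn hω

/-- The three kinds of scalars. -/
theorem exists_scalar : ∃ e : ℂ, e ^ 3 = 1 ∧
    (∀ v, v ≠ 0 → ∀ z, z ∈ E 11 v → z ∈ E 9 0 → ρ (hh F ω) z = e • z) ∧
    (∀ b, b ≠ 0 → ∀ z ∈ P3 ρ ν 0 0 b, ρ (hh F ω) z = e • z) ∧
    (∀ t, t ≠ 0 → ∀ z ∈ (E 11 0 ⊓ E 10 0 ⊓ E 6 t : Submodule ℂ M), ρ (hh F ω) z = e⁻¹ • z) := by
  obtain ⟨w, hw, w0⟩ := inj_nontriv (show 0 < finrank ℂ (P3 ρ ν 1 0 0) by rw [hm]; exact one_pos)
  have hwT : ρ (hh F ω) w ∈ P3 ρ ν 1 0 0 := by simpa [hh] using mapT_P3 hw ω 1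
  obtain ⟨e, he⟩ := eq_smul_of_line hm.le hw w0 hwT
  have he3 : e ^ 3 = 1 := by
    have h : ρ (hh F ω ^ 3) w = (e ^ 3) • w := by
      rw [map_pow, pow_succ (ρ (hh F ω)) 2, sq, Module.End.mul_apply, he, map_smul, Module.End.mul_apply,
        he, map_smul, he, smul_smul, smul_smul, pow_succ e 2, sq]
    rw [hh_pow hω, map_one, Module.End.one_apply] at h
    exact smul_left_injective ℂ w0 (h.symm.trans (one_smul ℂ w).symm)
  have he0 : e ≠ 0 := fun h => by simp [h] at he3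
  have top : ∀ v, v ≠ 0 → ∀ b, ∀ z ∈ P3 ρ ν v 0 b, ρ (hh F ω) z = e • z := by
    intro v hv b z hz
    have hz' : ρ (xe 6 (-b / v)) (ρ (tt 1 (Units.mk0 v hv)⁻¹) w) ∈ P3 ρ ν v 0 b := by
      have h1 := map6_P3 (mapT_P3 hw 1 (Units.mk0 v hv)⁻¹) (-b / v)
      simpa [div_mul_cancel₀ _ hv] using h1
    obtain ⟨d, rfl⟩ := eq_smul_of_line ((dim_P3_eq h3 hv 0 b).trans hm).le hz'
      (fun h => w0 (ExcDeg48.rep_inj ρ _ ((ExcDeg48.rep_inj ρ _ (h.trans (map_zero _).symm)).trans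
        (map_zero _).symm))) hz
    have hc : Commute (hh F ω) (tt 1 (Units.mk0 v hv)⁻¹) := by
      show tt _ _ * tt _ _ = tt _ _ * tt _ _
      rw [tt_mul, tt_mul, mul_comm ω, mul_comm (1 : Fˣ) (Units.mk0 v hv)⁻¹]
    rw [map_smul, rep_comm (hh_xe6 hω _), rep_comm hc, he, map_smul, map_smul, smul_comm]
  have low : ∀ b, b ≠ 0 → ∀ z ∈ P3 ρ ν 0 0 b, ρ (hh F ω) z = e • z := by
    intro b hb z hz
    obtain ⟨a, ha, h⟩ := (cj_nb (F := F) 11 10 (by decide)).map2 (ρ := ρ) (ν := ν)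
    have hv : b / a ≠ 0 := div_ne_zero hb ha
    obtain ⟨u, hu, u0⟩ := inj_nontriv
      (show 0 < finrank ℂ (P3 ρ ν (b / a) 0 0) by rw [dim_P3_eq h3 hv, hm]; exact one_pos)
    obtain ⟨h11, h9, h10⟩ := mem_P3.1 hu
    have hu' : ρ nb u ∈ P3 ρ ν 0 0 b := by
      refine mem_P3.2 ⟨(cj_nb 10 11 (by decide)).map_zero h10, (cj_nb 9 9 (by decide)).map_zero h9, ?_⟩
      have := (h (b / a)).1 u h11
      rwa [mul_div_cancel₀ b ha] at this
    obtain ⟨d, rfl⟩ := eq_smul_of_line ((dim_slice hν h3 hb 0).trans hm).le hu'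
      (fun h => u0 (ExcDeg48.rep_inj ρ _ (h.trans (map_zero _).symm))) hz
    rw [map_smul, rep_comm (hh_nb hω), top _ hv 0 u hu, map_smul, smul_comm]
  refine ⟨e, he3, fun v hv z h11 h9 => ?_, low, fun t ht z hz => ?_⟩
  · refine scalar_of_split hν 10 (R := E 11 v ⊓ E 9 0)
      (fun s y hy => ⟨map_comm (by decide) s hy.1, map_comm (by decide) s hy.2⟩)
      (fun b y hy => top v hv b y ?_) ⟨h11, h9⟩
    exact mem_P3.2 ⟨hy.1.1, hy.1.2, hy.2⟩
  · obtain ⟨a, ha, h⟩ := (cj_na (F := F) 10 6 (by decide)).map2 (ρ := ρ) (ν := ν)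
    have hb : t / a ≠ 0 := div_ne_zero ht ha
    obtain ⟨u, hu, u0⟩ := inj_nontriv
      (show 0 < finrank ℂ (P3 ρ ν 0 0 (t / a)) by rw [dim_slice hν h3 hb, hm]; exact one_pos)
    obtain ⟨h11, h9, h10⟩ := mem_P3.1 hu
    have hu' : ρ na u ∈ (E 11 0 ⊓ E 10 0 ⊓ E 6 t : Submodule ℂ M) := by
      refine ⟨⟨(cj_na 11 11 (by decide)).map_zero h11,
        (cj_na 6 10 (by decide)).map_zero (low_mem hν h3 hF hm hb hu).2⟩, ?_⟩
      have := (h (t / a)).1 u h10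
      rwa [mul_div_cancel₀ t ha] at this
    have hd : finrank ℂ (E 11 0 ⊓ E 10 0 ⊓ E 6 t : Submodule ℂ M) ≤ 1 := by
      rw [dim_U0_6 ht, hn]
    obtain ⟨d, rfl⟩ := eq_smul_of_line hd hu'
      (fun h => u0 (ExcDeg48.rep_inj ρ _ (h.trans (map_zero _).symm))) hz
    rw [map_smul, rep_flip (hh_na hω), rep_inv_smul (low _ hb u hu) he0, map_smul, smul_comm]

/-- The fixed space of 11, 9 and the piece of a non-trivial 6 in it. -/
theorem low_six {t : F} (ht : t ≠ 0) :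
    finrank ℂ (eigSub ρ q6 (c6 ν ((0 : F), (0 : F), t))) = 1 ∧
      ∀ z ∈ eigSub ρ q6 (c6 ν ((0 : F), (0 : F), t)), z ∈ E 10 0 := by
  have key : ∀ z ∈ eigSub ρ q6 (c6 ν ((0 : F), (0 : F), t)), z ∈ E 10 0 := by
    intro z hz
    refine le_Eg_zero hν 10 (fun s y hy => ?_) (fun b hb y hy => ?_) hz
    · obtain ⟨h11, h9, h6⟩ := (mem_q6 _ _ _).1 hy
      refine (mem_q6 _ _ _).2 ⟨map_comm (by decide) s h11, map_comm (by decide) s h9, mem_Eg.2 fun u => ?_⟩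
      rw [← Module.End.mul_apply, ← map_mul, rel_10_6, map_mul, map_mul, Module.End.mul_apply,
        Module.End.mul_apply, xe_Eg_zero h11, xe_Eg h6, map_smul]
    · obtain ⟨h11, h9, h6⟩ := (mem_q6 _ _ _).1 hy.1
      by_contra y0
      exact ht (param_unique hν h6 (low_mem hν h3 hF hm hb (mem_P3.2 ⟨h11, h9, hy.2⟩)).2 y0)
  refine ⟨le_antisymm ?_ ?_, key⟩
  · have h := dim_U0_6 (ρ := ρ) (ν := ν) ht
    rw [hn] at h
    rw [← h]
    exact Submodule.finrank_mono fun z hz =>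
      ⟨⟨((mem_q6 _ _ _).1 hz).1, key z hz⟩, ((mem_q6 _ _ _).1 hz).2.2⟩
  · obtain ⟨z, z0, h11, -, h9, -, h6⟩ := exists_line hν h3 hF hm ht
    exact pos_of_mem ((mem_q6 _ _ _).2 ⟨h11, h9, h6⟩) z0

theorem top_six {v : F} (hv : v ≠ 0) (t : F) :
    finrank ℂ (eigSub ρ q6 (c6 ν (v, (0 : F), t))) = 1 := by
  classical
  have hshift : ∀ a a' : F, ∀ z ∈ (E 11 v ⊓ E 9 0 ⊓ E 6 a : Submodule ℂ M),
      ρ (xe 10 ((a' - a) / v)) z ∈ (E 11 v ⊓ E 9 0 ⊓ E 6 a' : Submodule ℂ M) := by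
    rintro a a' z ⟨⟨h1, h2⟩, h6⟩
    refine ⟨⟨map_comm (by decide) _ h1, map_comm (by decide) _ h2⟩, mem_Eg.2 fun u => ?_⟩
    rw [← Module.End.mul_apply, ← map_mul, rel_10_6, map_mul, map_mul, Module.End.mul_apply,
      Module.End.mul_apply, xe_Eg h1, map_smul, xe_Eg h6, smul_smul, ← AddChar.map_add_eq_mul, map_smul]
    congr 2
    field_simp
    ring
  have hc : ∀ a, finrank ℂ (E 11 v ⊓ E 9 0 ⊓ E 6 a : Submodule ℂ M) =
      finrank ℂ (E 11 v ⊓ E 9 0 ⊓ E 6 t : Submodule ℂ M) := fun a =>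
    le_antisymm (ExcDeg48.rep_le ρ _ (hshift a t)) (ExcDeg48.rep_le ρ _ (hshift t a))
  have hR : finrank ℂ (E 11 v ⊓ E 9 0 : Submodule ℂ M) = Fintype.card F := by
    rw [sum_split hν 10 (E 11 v ⊓ E 9 0) fun s y hy =>
        ⟨map_comm (by decide) s hy.1, map_comm (by decide) s hy.2⟩,
      Finset.sum_congr rfl fun b _ => (show finrank ℂ (E 11 v ⊓ E 9 0 ⊓ E 10 b : Submodule ℂ M) = 1 from
        (dim_P3_eq h3 hv 0 b).trans hm), Finset.sum_const,
      Finset.card_univ, smul_eq_mul, mul_one]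
  rw [sum_split hν 6 (E 11 v ⊓ E 9 0) (fun s y hy =>
      ⟨map_comm (by decide) s hy.1, map_comm (by decide) s hy.2⟩),
    Finset.sum_congr rfl fun a _ => hc a, Finset.sum_const, Finset.card_univ, smul_eq_mul] at hR
  have e : eigSub ρ q6 (c6 ν (v, (0 : F), t)) = (E 11 v ⊓ E 9 0 ⊓ E 6 t : Submodule ℂ M) := by
    ext z
    simp only [mem_q6, Submodule.mem_inf, and_assoc]
  rw [e]
  exact Nat.eq_of_mul_eq_mul_left Fintype.card_pos (hR.trans (mul_one _).symm)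

end Cfsg.Agent.Lib.G2Deg48
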