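import Cfsg.Agent.Lib.G2Deg48.Trace

/-!
The value of the character at the element of order three.
-/

set_option autoImplicit false
set_option linter.unusedSectionVars false
set_option maxHeartbeats 400000

namespace Cfsg.Agent.Lib.G2Deg48

open Cfsg.Lie Module Cfsg.Agent.Lib.UniDeg48 Cfsg.Agent.Lib.MinDegree

variable {F : Type*} [Field F] [Fintype F]
variable {M : Type*} [AddCommGroup M] [Module ℂ M] [FiniteDimensional ℂ M]
variable {ρ : Representation ℂ (Gr F) M} {ν : AddChar F ℂ}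

variable (hν : ν ≠ 1) (h3 : (3 : F) ≠ 0) (hF : 5 ≤ Fintype.card F)
  (hm : finrank ℂ (P3 ρ ν 1 0 0) = 1)
  (hn : finrank ℂ (↥(Eg ρ ν 11 0 ⊓ Eg ρ ν 10 0 ⊓ Eg ρ ν 6 1)) = 1)
  (hd : finrank ℂ (↥(Eg ρ ν 11 0 ⊓ Eg ρ ν 10 0 ⊓ Eg ρ ν 6 0)) ≤ 1)
  {ω : Fˣ} (hω : ω ^ 3 = 1) (hω1 : ω ≠ 1)

section Vee

include hν hF hd

/-- The fixed line of the long root groups 11, 10, 6 is fixed by 9 and 8. -/
theorem bot_mem {z : M} (hz : z ∈ Eg ρ ν 11 0 ⊓ Eg ρ ν 10 0 ⊓ Eg ρ ν 6 0) :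
    z ∈ Eg ρ ν 9 0 ∧ z ∈ Eg ρ ν 8 0 := by
  obtain ⟨x, -, hx2, hx⟩ := exists_unit hF
  have hR : ∀ (r : Fin 12), (∀ n : Fin 12, n = 11 ∨ n = 10 ∨ n = 6 →
      n ≠ r ∧ n ≠ r.rev ∧ chevG2.commTerms r.val n.val = []) → ∀ s, ∀ w ∈ (Eg ρ ν 11 0 ⊓ Eg ρ ν 10 0 ⊓ Eg ρ ν 6 0 : Submodule ℂ M),
      ρ (xe r s) w ∈ (Eg ρ ν 11 0 ⊓ Eg ρ ν 10 0 ⊓ Eg ρ ν 6 0 : Submodule ℂ M) := fun r h s w hw =>
    ⟨⟨map_comm (h 11 (Or.inl rfl)) s hw.1.1, map_comm (h 10 (Or.inr (Or.inl rfl))) s hw.1.2⟩,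
      map_comm (h 6 (Or.inr (Or.inr rfl))) s hw.2⟩
  have hT : ∀ w ∈ (Eg ρ ν 11 0 ⊓ Eg ρ ν 10 0 ⊓ Eg ρ ν 6 0 : Submodule ℂ M),
      ρ (tt x 1) w ∈ (Eg ρ ν 11 0 ⊓ Eg ρ ν 10 0 ⊓ Eg ρ ν 6 0 : Submodule ℂ M) := fun w hw =>
    ⟨⟨by simpa using map_tt x 1 hw.1.1, by simpa using map_tt x 1 hw.1.2⟩,
      by simpa using map_tt x 1 hw.2⟩
  refine ⟨line_fix hν hd 9 (hR 9 ?_) x 1 hT ?_ hz, line_fix hν hd 8 (hR 8 ?_) x 1 hT ?_ hz⟩
  · rintro n (rfl | rfl | rfl) <;> decide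
  · rwa [ch9]
  · rintro n (rfl | rfl | rfl) <;> decide
  · rwa [ch8, mul_one, Ne, inv_eq_one]

end Vee

section Theta

include hd hω

/-- On the fixed line of 11, 10, 6 the element of order three is trivial. -/
theorem bot_scalar {z : M} (hz : z ∈ Eg ρ ν 11 0 ⊓ Eg ρ ν 10 0 ⊓ Eg ρ ν 6 0) :
    ρ (hh F ω) z = z := by
  by_cases z0 : z = 0
  · rw [z0, map_zero]
  have hT : ρ (hh F ω) z ∈ Eg ρ ν 11 0 ⊓ Eg ρ ν 10 0 ⊓ Eg ρ ν 6 0 :=
    ⟨⟨by simpa [hh] using map_tt ω 1 hz.1.1, by simpa [hh] using map_tt ω 1 hz.1.2⟩,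
      by simpa [hh] using map_tt ω 1 hz.2⟩
  have hA : ρ na z ∈ Eg ρ ν 11 0 ⊓ Eg ρ ν 10 0 ⊓ Eg ρ ν 6 0 :=
    ⟨⟨(cj_na 11 11 (by decide)).map_zero hz.1.1, (cj_na 6 10 (by decide)).map_zero hz.2⟩,
      (cj_na 10 6 (by decide)).map_zero hz.1.2⟩
  obtain ⟨θ, hθ⟩ := eq_smul_of_line hd hz z0 hT
  obtain ⟨a, ha⟩ := eq_smul_of_line hd hz z0 hA
  have ha0 : a ≠ 0 := fun h => z0 (ExcDeg48.rep_inj ρ na (by rw [ha, h, zero_smul, map_zero]))
  have hθ0 : θ ≠ 0 := fun h => z0 (ExcDeg48.rep_inj ρ (hh F ω) (by rw [hθ, h, zero_smul, map_zero]))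
  have h1 := rep_flip (ρ := ρ) (hh_na hω) z
  rw [rep_inv_smul hθ hθ0, map_smul, ha, map_smul, hθ, smul_smul, smul_smul] at h1
  have h2 : θ = θ⁻¹ := by
    have := smul_left_injective ℂ z0 h1
    rw [mul_comm a θ] at this
    exact mul_right_cancel₀ ha0 this
  have h3' : θ ^ 3 = 1 := by
    have h : ρ (hh F ω ^ 3) z = (θ ^ 3) • z := by
      rw [map_pow, pow_succ (ρ (hh F ω)) 2, sq, Module.End.mul_apply, hθ, map_smul, Module.End.mul_apply,
        hθ, map_smul, hθ, smul_smul, smul_smul, pow_succ θ 2, sq]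
    rw [hh_pow hω, map_one, Module.End.one_apply] at h
    exact smul_left_injective ℂ z0 (h.symm.trans (one_smul ℂ z).symm)
  have : θ = 1 := by
    have h4 : θ * θ = 1 := by nth_rw 2 [h2]; exact mul_inv_cancel₀ hθ0
    rw [pow_succ, sq, h4, one_mul] at h3'
    exact h3'
  rw [hθ, this, one_smul]

end Theta

include hν h3 hF hm hn hd hω hω1

/-- The value of the character. -/
theorem char_hh : ρ.character (hh F ω) =
    ((Fintype.card F : ℂ) - 1) * (Fintype.card F + 2) +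
      finrank ℂ (↥(Eg ρ ν 11 0 ⊓ Eg ρ ν 10 0 ⊓ Eg ρ ν 6 0)) := by
  classical
  obtain ⟨e, he3, htop, hlow, hline⟩ := exists_scalar hν h3 hF hm hn hω
  set K := LinearMap.trace ℂ M (ρ (hh F ω) ∘ₗ eigenProj ρ q6 (c6 ν ((0 : F), (0 : F), (0 : F)))) with hK
  have he0 : e ≠ 0 := fun h => by simp [h] at he3
  have tmoved : ∀ v c t : F, c ≠ 0 →
      LinearMap.trace ℂ M (ρ (hh F ω) ∘ₗ eigenProj ρ q6 (c6 ν (v, c, t))) = 0 := by
    intro v c t hc
    refine trace_moved (χ' := c6 ν (v, ((ω⁻¹ : Fˣ) : F) * c, t)) (fun h => hc ?_) fun z hz => ?_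
    · have h' := ((c6_bij hν).1 h)
      simp only [Prod.mk.injEq, true_and, and_true] at h'
      by_contra _
      exact hω1 (by
        rw [← inv_inj, inv_one]
        exact Units.ext (mul_right_cancel₀ hc (by rw [h', Units.val_one, one_mul])))
    · obtain ⟨h11, h9, h6⟩ := (mem_q6 _ _ _).1 hz
      refine (mem_q6 _ _ _).2 ⟨?_, ?_, ?_⟩
      · simpa [hh, ch11] using map_tt ω 1 h11
      · simpa [hh, ch9] using map_tt ω 1 h9
      · simpa [hh, ch6, inv_pow, hω] using map_tt ω 1 h6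
  have ttop : ∀ v t : F, v ≠ 0 →
      LinearMap.trace ℂ M (ρ (hh F ω) ∘ₗ eigenProj ρ q6 (c6 ν (v, (0 : F), t))) = e := by
    intro v t hv
    rw [trace_scalar (e := e) _ fun z hz => htop v hv z ((mem_q6 _ _ _).1 hz).1 ((mem_q6 _ _ _).1 hz).2.1,
      top_six hν h3 hF hm hn hω hv t, Nat.cast_one, mul_one]
  have tline : ∀ t : F, t ≠ 0 →
      LinearMap.trace ℂ M (ρ (hh F ω) ∘ₗ eigenProj ρ q6 (c6 ν ((0 : F), (0 : F), t))) = e⁻¹ := by
    intro t ht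
    obtain ⟨h1, h2⟩ := low_six hν h3 hF hm hn hω ht
    rw [trace_scalar (e := e⁻¹) _ fun z hz => hline t ht z
      ⟨⟨((mem_q6 _ _ _).1 hz).1, h2 z hz⟩, ((mem_q6 _ _ _).1 hz).2.2⟩, h1, Nat.cast_one, mul_one]
  have hsum : ∀ f : F × F × F → ℂ,
      ∑ p : F × F × F, f p * LinearMap.trace ℂ M (ρ (hh F ω) ∘ₗ eigenProj ρ q6 (c6 ν p)) =
        f (0, 0, 0) * K + (∑ t ∈ Finset.univ.erase (0 : F), f (0, 0, t)) * e⁻¹ +
          (∑ v ∈ Finset.univ.erase (0 : F), ∑ t : F, f (v, 0, t)) * e := by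
    intro f
    simp only [Fintype.sum_prod_type]
    rw [← Finset.add_sum_erase _ _ (Finset.mem_univ (0 : F))]
    have hc : ∀ v : F, ∑ c : F, ∑ t : F, f (v, c, t) *
        LinearMap.trace ℂ M (ρ (hh F ω) ∘ₗ eigenProj ρ q6 (c6 ν (v, c, t))) =
        ∑ t : F, f (v, 0, t) *
        LinearMap.trace ℂ M (ρ (hh F ω) ∘ₗ eigenProj ρ q6 (c6 ν (v, (0 : F), t))) := fun v => by
      rw [Finset.sum_eq_single (0 : F) (fun c _ hc => Finset.sum_eq_zero fun t _ => by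
        rw [tmoved v c t hc, mul_zero]) (by simp)]
    simp only [hc]
    rw [← Finset.add_sum_erase _ _ (Finset.mem_univ (0 : F)), Finset.sum_mul, Finset.sum_mul, ← hK]
    congr 1
    · congr 1
      exact Finset.sum_congr rfl fun t ht => by rw [tline t (Finset.ne_of_mem_erase ht)]
    · refine Finset.sum_congr rfl fun v hv => ?_
      rw [Finset.sum_mul]
      exact Finset.sum_congr rfl fun t _ => by rw [ttop v t (Finset.ne_of_mem_erase hv)]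
  have hchar : ∀ a : F × F × F, ρ.character (hh F ω * q6 (Multiplicative.ofAdd a)) =
      c6 ν ((0 : F), (0 : F), (0 : F)) a * K +
        (∑ t ∈ Finset.univ.erase (0 : F), c6 ν ((0 : F), (0 : F), t) a) * e⁻¹ +
          (∑ v ∈ Finset.univ.erase (0 : F), ∑ t : F, c6 ν (v, (0 : F), t) a) * e := fun a => by
    rw [char_mul, ← hsum fun p => c6 ν p a]
    exact (Fintype.sum_bijective _ (c6_bij hν) _ _ fun p => rfl).symm
  have hsum0 : ∀ s : F, s ≠ 0 → ∑ v ∈ Finset.univ.erase (0 : F), ν (v * s) = -1 := by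
    intro s hs
    have h : ∑ v : F, ν (v * s) = 0 := by
      rw [AddChar.sum_mulShift s (AddChar.IsPrimitive.of_ne_one hν), if_neg hs, Nat.cast_zero]
    rw [← Finset.add_sum_erase _ _ (Finset.mem_univ (0 : F)), zero_mul, AddChar.map_zero_eq_one] at h
    exact eq_neg_of_add_eq_zero_right h
  have hcard : ((Finset.univ.erase (0 : F)).card : ℂ) = (Fintype.card F : ℂ) - 1 := by
    rw [Finset.card_erase_of_mem (Finset.mem_univ _), Finset.card_univ, Nat.cast_sub Fintype.card_pos,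
      Nat.cast_one]
  have he1 : e = 1 := by
    have hg : Cj (na * nb * na : Gr F) 11 6 :=
      cj_mul (cj_mul (cj_na 10 6 (by decide)) (cj_nb 11 10 (by decide))) (cj_na 11 11 (by decide))
    obtain ⟨c, hc0, hc⟩ := hg
    have hconj : ρ.character (hh F ω * xe 11 1) = ρ.character (hh F ω * xe 6 c) := by
      rw [← Representation.char_conj ρ (hh F ω * xe 11 1) (na * nb * na)]
      congr 1
      rw [← mul_assoc, ← (hh_g hω).eq, mul_assoc (hh F ω), hc 1, mul_one, mul_assoc, mul_assoc,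
        mul_inv_cancel, mul_one]
    rw [← q6_first, ← q6_last, hchar, hchar] at hconj
    simp only [c6_apply, zero_mul, mul_zero, add_zero, zero_add, mul_one, AddChar.map_zero_eq_one,
      Finset.sum_const, Finset.card_univ, nsmul_eq_mul, hcard] at hconj
    have h5 : ∑ v ∈ Finset.univ.erase (0 : F), ν v = -1 := by simpa using hsum0 1 one_ne_zero
    have h6 : ∑ t : F, ν (t * c) = 0 := by
      rw [AddChar.sum_mulShift c (AddChar.IsPrimitive.of_ne_one hν), if_neg hc0, Nat.cast_zero]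
    rw [← Finset.mul_sum, h5, hsum0 c hc0, h6] at hconj
    have h7 : (Fintype.card F : ℂ) * (e⁻¹ - e) = 0 := by linear_combination hconj
    have h8 : e⁻¹ = e := by
      simpa [sub_eq_zero] using h7
    have h9 : e * e = 1 := by nth_rw 2 [← h8]; exact mul_inv_cancel₀ he0
    rw [pow_succ, sq, h9, one_mul] at he3
    exact he3
  subst he1
  have hstab : ∀ s, ∀ z ∈ eigSub ρ q6 (c6 ν ((0 : F), (0 : F), (0 : F))),
      ρ (xe 10 s) z ∈ eigSub ρ q6 (c6 ν ((0 : F), (0 : F), (0 : F))) := by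
    intro s z hz
    obtain ⟨h11, h9, h6⟩ := (mem_q6 _ _ _).1 hz
    refine (mem_q6 _ _ _).2 ⟨map_comm (by decide) s h11, map_comm (by decide) s h9, mem_Eg.2 fun u => ?_⟩
    rw [← Module.End.mul_apply, ← map_mul, rel_10_6, map_mul, map_mul, Module.End.mul_apply,
      Module.End.mul_apply, xe_Eg_zero h11, xe_Eg h6, map_smul]
  have hK1 : K = ((Fintype.card F : ℂ) - 1) +
      finrank ℂ (↥(Eg ρ ν 11 0 ⊓ Eg ρ ν 10 0 ⊓ Eg ρ ν 6 0)) := by
    rw [hK, trace_scalar (e := 1) _ fun z hz => scalar_of_split hν 10 hstab (fun b w hw => ?_) hz, one_mul,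
      sum_split hν 10 _ hstab, Nat.cast_sum, ← Finset.add_sum_erase _ _ (Finset.mem_univ (0 : F)),
      add_comm]
    · congr 1
      · rw [← hcard, ← Nat.smul_one_eq_cast, ← Finset.sum_const]
        refine Finset.sum_congr rfl fun b hb => ?_
        have hb' := Finset.ne_of_mem_erase hb
        rw [show eigSub ρ q6 (c6 ν ((0 : F), (0 : F), (0 : F))) ⊓ Eg ρ ν 10 b = P3 ρ ν 0 0 b from ?_,
          (dim_slice hν h3 hb' 0).trans hm, Nat.cast_one]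
        refine le_antisymm (fun z hz => ?_) fun z hz => ?_
        · obtain ⟨h11, h9, -⟩ := (mem_q6 _ _ _).1 hz.1
          exact mem_P3.2 ⟨h11, h9, hz.2⟩
        · obtain ⟨h11, h9, h10⟩ := mem_P3.1 hz
          exact ⟨(mem_q6 _ _ _).2 ⟨h11, h9, (low_mem hν h3 hF hm hb' hz).2⟩, h10⟩
      · rw [show eigSub ρ q6 (c6 ν ((0 : F), (0 : F), (0 : F))) ⊓ Eg ρ ν 10 0 =
          (Eg ρ ν 11 0 ⊓ Eg ρ ν 10 0 ⊓ Eg ρ ν 6 0 : Submodule ℂ M) from ?_]
        refine le_antisymm (fun z hz => ?_) fun z hz => ?_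
        · obtain ⟨h11, -, h6⟩ := (mem_q6 _ _ _).1 hz.1
          exact ⟨⟨h11, hz.2⟩, h6⟩
        · exact ⟨(mem_q6 _ _ _).2 ⟨hz.1.1, (bot_mem hν hF hd hz).1, hz.2⟩, hz.1.2⟩
    · obtain ⟨h11, h9, h6⟩ := (mem_q6 _ _ _).1 hw.1
      by_cases hb : b = 0
      · subst hb
        rw [one_smul]
        exact bot_scalar hd hω ⟨⟨h11, hw.2⟩, h6⟩
      · exact hlow b hb w (mem_P3.2 ⟨h11, h9, hw.2⟩)
  have h0 := hchar 0
  rw [ofAdd_zero, map_one, mul_one] at h0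
  rw [h0]
  simp only [AddChar.map_zero_eq_one, Finset.sum_const, nsmul_eq_mul, mul_one, hcard, Finset.card_univ,
    hK1, inv_one]
  ring

end Cfsg.Agent.Lib.G2Deg48
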